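import Cfsg.Agent.FZJ.Defs

/-! Equivariant ZJ: generic counting tools, unipotent groups and `p`-groups. -/

set_option autoImplicit false

namespace Cfsg.Agent.FZJ
open Cfsg.Agent.H90

section Act
variable {Γ α : Type*} [Group Γ] (act : Γ → α → α)

theorem orbit_dvd (h1 : ∀ a, act 1 a = a) (hm : ∀ g h a, act (g * h) a = act g (act h a)) (H : Subgroup Γ) (a : α)
    {S : Set α} (hS : ∀ b, b ∈ S ↔ ∃ g ∈ H, act g a = b) : S.ncard ∣ Nat.card H := by
  letI : MulAction Γ α := { smul := act, one_smul := h1, mul_smul := hm }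
  have h : S = MulAction.orbit H a := Set.ext fun b => (hS b).trans
    ⟨fun ⟨g, hg, e⟩ => ⟨⟨g, hg⟩, e⟩, fun ⟨g, e⟩ => ⟨g, g.2, e⟩⟩
  rw [h, ← MulAction.index_stabilizer]
  exact Subgroup.index_dvd_card _

theorem fixed_of_not_dvd (h1 : ∀ a, act 1 a = a) (hm : ∀ g h a, act (g * h) a = act g (act h a)) {s : ℕ}
    [Fact s.Prime] {H : Subgroup Γ} (hH : IsPGroup s H) {S : Set α} (hf : S.Finite)
    (hS : ∀ g ∈ H, ∀ a ∈ S, act g a ∈ S) (h : ¬ s ∣ S.ncard) : ∃ a ∈ S, ∀ g ∈ H, act g a = a := by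
  letI : MulAction Γ α := { smul := act, one_smul := h1, mul_smul := hm }
  have _ := hf
  let T : SubMulAction H α := ⟨S, fun g _ ha => hS g g.2 _ ha⟩
  obtain ⟨a, ha⟩ := hH.nonempty_fixed_point_of_prime_not_dvd_card T h
  exact ⟨a, a.2, fun g hg => congrArg Subtype.val (ha ⟨g, hg⟩)⟩

theorem not_dvd_of_unique (h1 : ∀ a, act 1 a = a) (hm : ∀ g h a, act (g * h) a = act g (act h a)) {s : ℕ}
    [Fact s.Prime] {H : Subgroup Γ} (hH : IsPGroup s H) {S : Set α} (hf : S.Finite)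
    (hS : ∀ g ∈ H, ∀ a ∈ S, act g a ∈ S) {a₀ : α} (ha₀ : a₀ ∈ S) (hfix : ∀ g ∈ H, act g a₀ = a₀)
    (hu : ∀ a ∈ S, (∀ g ∈ H, act g a = a) → a = a₀) : ¬ s ∣ S.ncard := by
  letI : MulAction Γ α := { smul := act, one_smul := h1, mul_smul := hm }
  let T : SubMulAction H α := ⟨S, fun g _ ha => hS g g.2 _ ha⟩
  have : Finite T := hf
  intro h
  obtain ⟨b, hb, e⟩ := hH.exists_fixed_point_of_prime_dvd_card_of_fixed_point T h (a := ⟨a₀, ha₀⟩)
    fun g => Subtype.ext (hfix g g.2)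
  exact e (Subtype.ext (hu b b.2 fun g hg => congrArg Subtype.val (hb ⟨g, hg⟩)).symm)

end Act

section Unip
variable {p : ℕ} [Fact p.Prime] {A : Type*} [Ring A] [Algebra (ZMod p) A]

theorem sub_one_pow_eq (g : A) (n : ℕ) : (g - 1) ^ p ^ n = g ^ p ^ n - 1 := by
  obtain h | h := subsingleton_or_nontrivial A
  · exact Subsingleton.elim _ _
  have : CharP A p := charP_of_injective_algebraMap (algebraMap (ZMod p) A).injective p
  rw [sub_pow_char_pow_of_commute _ _ (Commute.one_right g), one_pow]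

theorem isPGroup_of_unip {H : Subgroup Aˣ} (h : Unip (ZMod p) H) : IsPGroup p H := fun g => by
  obtain ⟨n, hn⟩ := h
  have h1 := Submodule.pow_mem_pow _ (mem_nn (k := ZMod p) g.2) n
  rw [hn, Submodule.mem_bot] at h1
  refine ⟨n, Subtype.ext (Units.ext ?_)⟩
  have h2 := sub_one_pow_eq (p := p) (g.1 : A) n
  rw [pow_eq_zero_of_le (Nat.lt_pow_self (Fact.out : p.Prime).one_lt).le h1, eq_comm, sub_eq_zero] at h2
  simpa using h2

theorem unip_zpowers {g : Aˣ} {n : ℕ} (hg : g ^ p ^ n = 1) : Unip (ZMod p) (Subgroup.zpowers g) := by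
  obtain ⟨N, h1, h2, h3⟩ := exists_nil_closure (A := Submodule.span (ZMod p) {(g : A) - 1}) (n := p ^ n) (by
    rw [Submodule.span_pow, Set.singleton_pow, sub_one_pow_eq, ← Units.val_pow_eq_pow_val, hg]
    simp)
  have h4 := h1 (Submodule.mem_span_singleton_self _)
  refine unip_of_le h3 (nn_le.2 fun x hx => ?_)
  obtain ⟨i, rfl⟩ := (isOfFinOrder_iff_pow_eq_one.2
    ⟨_, pow_pos (Fact.out : p.Prime).pos n, hg⟩).mem_powers_iff_mem_zpowers.2 hx
  clear hx
  induction i with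
  | zero => simp
  | succ i ih =>
    have : ((g ^ (i + 1) : Aˣ) : A) - 1 = (((g ^ i : Aˣ) : A) - 1) * ((g : A) - 1) + (((g ^ i : Aˣ) : A) - 1) +
        ((g : A) - 1) := by
      rw [pow_succ, Units.val_mul]; noncomm_ring
    exact this ▸ add_mem (add_mem (h2 (Submodule.mul_mem_mul ih h4)) ih) h4

theorem unip_of_isPGroup {H : Subgroup Aˣ} [Finite H] (h : IsPGroup p H) : Unip (ZMod p) H := by
  obtain ⟨K, hK, hmax⟩ := (Set.toFinite {K : Subgroup H | Unip (ZMod p) (K.map H.subtype)}).exists_maximal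
    ⟨⊥, by simpa using unip_bot⟩
  by_cases h1 : K = ⊤
  · rw [h1] at hK
    exact Unip.mono hK fun x hx => ⟨⟨x, hx⟩, trivial, rfl⟩
  have := h.isNilpotent
  obtain ⟨g, hg, hg'⟩ := SetLike.exists_of_lt (normalizerCondition_of_isNilpotent K (lt_top_iff_ne_top.2 h1))
  obtain ⟨n, hn⟩ := h g
  have h2 := Unip.sup hK (unip_zpowers (g := g.1) (n := n) (congrArg Subtype.val hn)) fun x hx =>
    rc_eq_self_iff_mem_normalizer.2 (Subgroup.zpowers_le.2 (Subgroup.le_normalizer_map _ ⟨g, hg, rfl⟩) hx)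
  refine (hg' (hmax (y := K ⊔ Subgroup.zpowers g) ?_ le_sup_left
    (Subgroup.mem_sup_right (Subgroup.mem_zpowers g)))).elim
  change Unip (ZMod p) (Subgroup.map H.subtype _)
  rwa [Subgroup.map_sup, MonoidHom.map_zpowers]

end Unip

/-- the nilpotent ideal generated by a normal unipotent subgroup -/
theorem exists_nil_ideal {k A : Type*} [Field k] [Ring A] [Algebra k A] {T Y : Subgroup Aˣ} (hT : Unip k T)
    (hTY : T ≤ Y) (hn : ∀ y ∈ Y, T ^~ y = T) : ∃ (L I : Submodule k A) (m : ℕ), (∀ y ∈ Y, (y : A) ∈ L) ∧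
      L * L ≤ L ∧ I ≤ L ∧ L * I ≤ I ∧ I * L ≤ I ∧ (∀ t ∈ T, (t : A) - 1 ∈ I) ∧ I ^ m = ⊥ := by
  obtain ⟨m, hm⟩ := hT
  set P := nn k T
  let L : Submodule k A := Submodule.span k {x | ∃ g ∈ Y, x = (g : A)}
  have h0 : ∀ y ∈ Y, (y : A) ∈ L := fun y hy => Submodule.subset_span ⟨y, hy, rfl⟩
  have h1L : (1 : A) ∈ L := h0 1 Y.one_mem
  have hPL : P ≤ L := nn_le.2 fun g hg => sub_mem (h0 g (hTY hg)) h1L
  have hLL : L * L ≤ L := by
    rw [Submodule.span_mul_span, Submodule.span_le]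
    rintro _ ⟨_, ⟨g, hg, rfl⟩, _, ⟨h, hh, rfl⟩, rfl⟩
    exact h0 (g * h) (Y.mul_mem hg hh)
  have hLP : L * P ≤ P * L := by
    change Submodule.span k _ * Submodule.span k _ ≤ _
    rw [Submodule.span_mul_span, Submodule.span_le]
    rintro _ ⟨_, ⟨g, hg, rfl⟩, _, ⟨h, hh, rfl⟩, rfl⟩
    have : (g : A) * ((h : A) - 1) = (((g * h * g⁻¹ : Aˣ) : A) - 1) * g := by
      rw [sub_mul, ← Units.val_mul, inv_mul_cancel_right, Units.val_mul]; noncomm_ring
    change (g : A) * ((h : A) - 1) ∈ P * L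
    rw [this]
    refine Submodule.mul_mem_mul (mem_nn ?_) (h0 g hg)
    rw [← hn g hg] at hh
    exact mem_rc.1 hh
  have hIL : P * L * L ≤ P * L := by rw [mul_assoc]; exact mul_le_mul_right hLL _
  have hLI : L * (P * L) ≤ P * L := by rw [← mul_assoc]; exact (mul_le_mul_left hLP _).trans hIL
  have h2 : ∀ j, (P * L) ^ j ≤ P ^ j * L := by
    intro j
    induction j with
    | zero => rw [pow_zero, pow_zero, one_mul, Submodule.one_le]; exact h1L
    | succ j ih =>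
      rw [pow_succ, pow_succ]
      refine (mul_le_mul_left ih _).trans ?_
      rw [mul_assoc, mul_assoc]
      exact mul_le_mul_right hLI _
  refine ⟨L, P * L, m, h0, hLL, (mul_le_mul_left hPL _).trans hLL, hLI, hIL, fun t ht => ?_, eq_bot_iff.2 ?_⟩
  · simpa using Submodule.mul_mem_mul (mem_nn (k := k) ht) h1L
  · refine (h2 m).trans ?_
    rw [hm, Submodule.bot_mul]

/-- an element of prime power order prime to `p` whose square is not one -/
theorem exists_torus {p : ℕ} [Fact p.Prime] (hp : 3 < p) :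
    ∃ (s j : ℕ) (t : (ZMod p)ˣ), s.Prime ∧ s ≠ p ∧ t ^ s ^ j = 1 ∧ t ^ 2 ≠ 1 := by
  have h0 : ∀ n : ℕ, 0 < n → n < p → (n : ZMod p) ≠ 0 := fun n h1 h2 e =>
    absurd (Nat.le_of_dvd h1 ((ZMod.natCast_eq_zero_iff n p).1 e)) (by omega)
  let t : (ZMod p)ˣ := Units.mk0 ((2 : ℕ) : ZMod p) (h0 2 (by norm_num) (by omega))
  have h1 : t ^ 2 ≠ 1 := fun e => h0 3 (by norm_num) hp (by
    have : ((2 : ℕ) : ZMod p) ^ 2 = 1 := congrArg Units.val e
    push_cast at this ⊢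
    linear_combination this)
  have h2 : orderOf t ≤ p - 1 := by
    rw [← ZMod.card_units p]
    exact orderOf_le_card_univ
  by_cases h3 : ∀ {s : ℕ}, s.Prime → s ∣ orderOf t → s = 2
  · exact ⟨2, _, t, Nat.prime_two, by omega, by
      rw [← Nat.eq_prime_pow_of_unique_prime_dvd (orderOf_pos t).ne' h3, pow_orderOf_eq_one], h1⟩
  push Not at h3
  obtain ⟨s, hs, hd, h4⟩ := h3
  have h5 := orderOf_pow_orderOf_div (orderOf_pos t).ne' hd
  have h6 := Nat.le_of_dvd (orderOf_pos t) hd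
  refine ⟨s, 1, t ^ (orderOf t / s), hs, by omega, by rw [pow_one, ← orderOf_dvd_iff_pow_eq_one, h5], fun e => h4 ?_⟩
  rw [← orderOf_dvd_iff_pow_eq_one, h5] at e
  exact (Nat.prime_dvd_prime_iff_eq hs Nat.prime_two).1 e

end Cfsg.Agent.FZJ
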