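import Cfsg.Agent.H90.QP7

/-! Equivariant ZJ (S1930): hypotheses and conclusion of the induction. -/

set_option autoImplicit false

namespace Cfsg.Agent.FZJ

variable {X : Type*} [Group X]

/-- `R` is an `r`-group acting coprimely on `G`, and `a ∈ G` generates a `p`-group with every
`R`-invariant `p`-subgroup of `G` -/
structure Hyp (p r : ℕ) (G R : Subgroup X) (a : X) : Prop where
  rp : IsPGroup r R
  cop : (Nat.card G).Coprime r
  norm : R ≤ Subgroup.normalizer (G : Set X)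
  mem : a ∈ G
  sup : ∀ Q : Subgroup X, Q ≤ G → IsPGroup p Q → R ≤ Subgroup.normalizer (Q : Set X) →
    IsPGroup p ↥(Q ⊔ Subgroup.zpowers a)

/-- `a ∈ O_p(G)` -/
def InOp (p : ℕ) (G : Subgroup X) (a : X) : Prop :=
  ∃ T : Subgroup X, T ≤ G ∧ IsPGroup p T ∧ a ∈ T ∧ G ≤ Subgroup.normalizer (T : Set X)

theorem Hyp.mono {p r : ℕ} {G R Y : Subgroup X} {a : X} (h : Hyp p r G R a) (hY : Y ≤ G)
    (hR : R ≤ Subgroup.normalizer (Y : Set X)) (ha : a ∈ Y) : Hyp p r Y R a :=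
  ⟨h.rp, h.cop.coprime_dvd_left (Subgroup.card_dvd_of_le hY), hR, ha, fun Q hQ => h.sup Q (hQ.trans hY)⟩

end Cfsg.Agent.FZJ
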