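import Cfsg.Agent.FZJ.TT

/-! Equivariant ZJ: `U(x)` and the component of the root subgroup of `x`. -/

set_option autoImplicit false
set_option linter.unusedSimpArgs false
set_option linter.unnecessarySeqFocus false

namespace Cfsg.Agent.FZJ
open Cfsg Cfsg.Agent.H90 LinearMap

section End
variable {k : Type*} [Field k] {M : Type*} [AddCommGroup M] [Module k M]
variable {G K : Subgroup (M →ₗ[k] M)ˣ} {a b c x y ν : M →ₗ[k] M} {g : (M →ₗ[k] M)ˣ}

theorem qe_nc (hg : G ^~ g = G) (h : QE k G a) : QE k G ((g⁻¹ : (M →ₗ[k] M)ˣ) * a * g) := by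
  refine ⟨conj_sq h.sq, fun t => ?_⟩
  obtain ⟨u, hu, e⟩ := h.mem t
  refine ⟨g⁻¹ * u * g, hg ▸ conj_mem_rc hu g, ?_⟩
  simp [e, mul_add, add_mul]

theorem inE_nc (hg : G ^~ g = G) (h : InE G a c) :
    InE G ((g⁻¹ : (M →ₗ[k] M)ˣ) * a * g) ((g⁻¹ : (M →ₗ[k] M)ˣ) * c * g) := by
  have h1 : InE ⊤ a c := ⟨h.qe.mono le_top, h.ker, h.range⟩
  have h2 := h1.conj' (InG.of_mem (Subgroup.mem_top g⁻¹)) g.inv_mul g.mul_inv
  exact ⟨qe_nc hg h.qe, h2.ker, h2.range⟩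

theorem EE_nc (hg : G ^~ g = G) {ha : a * a = 0} :
    EE G a ha ^~ g = EE G ((g⁻¹ : (M →ₗ[k] M)ˣ) * a * g) (conj_sq ha) := by
  ext h
  rw [mem_rc, mem_EE, mem_EE]
  constructor
  · intro h1
    convert inE_nc hg h1 using 1
    simp [mul_sub, sub_mul, mul_assoc]
  · intro h1
    convert inE_nc (rc_inv_of_eq hg) h1 using 1
    · simp [mul_assoc]
    · simp [mul_sub, sub_mul, mul_assoc]

theorem qe_of_EE_le {ha : a * a = 0} (h : InE G a c) (hK : EE G a ha ≤ K) : QE k K c :=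
  ⟨h.qe.sq, fun t => InG.of_mem (hK (h.smul t).un_mem)⟩

theorem EE_le_UG (mu : MU x y) : EE G x mu.ee ≤ UG G mu := fun _ hg =>
  ⟨EE_le hg, uu_of_d2 mu (d2_of_inE mu hg)⟩

/-- elements of `G` commuting with `ν` -/
def Cent (G : Subgroup (M →ₗ[k] M)ˣ) (ν : M →ₗ[k] M) : Subgroup (M →ₗ[k] M)ˣ where
  carrier := {g | g ∈ G ∧ ν * g = g * ν}
  one_mem' := ⟨G.one_mem, by simp⟩
  mul_mem' := fun {g h} hg hh => ⟨G.mul_mem hg.1 hh.1, by
    rw [Units.val_mul, ← mul_assoc, hg.2, mul_assoc, hh.2, mul_assoc]⟩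
  inv_mem' := fun {g} hg => ⟨G.inv_mem hg.1, (comm_of_inv g.mul_inv g.inv_mul hg.2.symm).symm⟩

variable [FiniteDimensional k M]

theorem qd_nc (hg : G ^~ g = G) (h : QD G a) : QD G ((g⁻¹ : (M →ₗ[k] M)ˣ) * a * g) :=
  h.of_le (qe_nc hg h.qe) (fun h0 => h.ne (by
    simpa [mul_assoc] using congrArg (fun z => (g : M →ₗ[k] M) * z * (g⁻¹ : (M →ₗ[k] M)ˣ)) h0))
    ((rk_mul_le_left _ _).trans (rk_mul_le_right _ _))

theorem Sigma_nc (hg : G ^~ g = G) {A : Subgroup (M →ₗ[k] M)ˣ} (hA : A ∈ quadraticRootSubgroups G) :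
    A ^~ g ∈ quadraticRootSubgroups G := by
  obtain ⟨a, ha, rfl⟩ := mem_Sigma.1 hA
  rw [EE_nc hg]
  exact (qd_nc hg ha).EE_mem

theorem conn_nc (hg : G ^~ g = G) {A B : Subgroup (M →ₗ[k] M)ˣ} (h : Conn (quadraticRootSubgroups G) A B) :
    Conn (quadraticRootSubgroups G) (A ^~ g) (B ^~ g) := by
  induction h with
  | refl => exact Relation.ReflTransGen.refl
  | tail _ h2 ih => exact ih.tail ⟨Sigma_nc hg h2.1, Sigma_nc hg h2.2.1, r1_rc h2.2.2 g⟩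

theorem UG_congr {x' y' : M →ₗ[k] M} (hx : QD G x) (mu : MU x y) (mu' : MU x' y') (h : InE G x x') (h0 : x' ≠ 0) :
    UG G mu ≤ UG G mu' := by
  have d1 := d2_of_inE mu h
  have d2 := d2_of_inE mu' ((h.sim hx h0).symm.inE hx.qe)
  exact fun g hg => ⟨hg.1, uu_congr hg.2 d1.l d1.r d2.l d2.r⟩

theorem mu_r1 (hk : PF k) (hx : QD G x) (hy : QD G y) (mu : MU x y) :
    IsRankOnePair (EE G x hx.sq) (EE G y hy.sq) :=
  hx.r1 hk.two hk.card hy (by rw [mu.efe]; exact hx.ne)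

theorem opp_conj (hk : PF k) (hx : QD G x) (hy : QD G y) (mu : MU x y) {B : Subgroup (M →ₗ[k] M)ˣ}
    (hB : B ∈ quadraticRootSubgroups G) (h : IsRankOnePair (EE G x hx.sq) B) :
    ∃ g ∈ UG G mu, EE G y hy.sq ^~ g⁻¹ = B := by
  obtain ⟨b, hb, rfl⟩ := mem_Sigma.1 hB
  obtain ⟨y', i, mu'⟩ := hx.exists_mu hk.two hk.card hb (hx.not_nil_of_r1 hk.two hb h)
  obtain ⟨g, hg, e⟩ := exists_UG hk mu mu' hx.qe hy.qe i.qe
  refine ⟨g, hg, ?_⟩
  rw [EE_rc (G.inv_mem hg.1)]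
  exact EE_congr (by rw [inv_inv, e]; exact i.sim hb (mu'.ne hx.ne))

theorem swap_EE (hx : QD G x) (hy : QD G y) (mu : MU x y) (hg : g ∈ G) (h1 : (g : M →ₗ[k] M) * (x * y) = y * x * g)
    (h2 : (g : M →ₗ[k] M) * (y * x) = x * y * g) : EE G x hx.sq ^~ g = EE G y hy.sq := by
  rw [EE_rc hg]
  have h3 := hx.conj' (InG.of_mem (G.inv_mem hg)) g.inv_mul
  have d := d2_of_mu mu
  refine EE_congr ((inE_of_d2 (y := x) h3.qe ⟨?_, ?_⟩).sim hy h3.ne)
  · have : y * x * (g⁻¹ : (M →ₗ[k] M)ˣ) = (g⁻¹ : (M →ₗ[k] M)ˣ) * (x * y) := by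
      rw [Units.eq_inv_mul_iff_mul_eq, ← mul_assoc, h2, Units.mul_inv_cancel_right]
    rw [← mul_assoc, ← mul_assoc, this, mul_assoc _ (x * y), d.l]
  · rw [mul_assoc, h1, ← mul_assoc, mul_assoc _ x, d.r]

theorem conn_conj (hk : PF k) (hx : QD G x) (hy : QD G y) (mu : MU x y) (hK : K ≤ G) (h1 : UG G mu ≤ K)
    (h2 : QE k K y) {C : Subgroup (M →ₗ[k] M)ˣ} (h : Conn (quadraticRootSubgroups G) (EE G x hx.sq) C) :
    ∃ g ∈ K, C = EE G x hx.sq ^~ g := by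
  obtain ⟨n, hn, e⟩ := wey_mem mu ((qe_UG mu hx.qe (d2_of_mu mu)).mono h1) h2 (t := (1 : k)) one_ne_zero
  have h3 := wey_swap mu (1 : k)
  rw [← e] at h3
  have h4 := swap_EE hx hy mu (hK hn) h3.1 h3.2
  induction h with
  | refl => exact ⟨1, one_mem _, (rc_one _).symm⟩
  | tail _ h5 ih =>
    obtain ⟨g, hg, rfl⟩ := ih
    obtain ⟨u, hu, e⟩ := opp_conj hk hx hy mu (Sigma_rc h5.2.1 (G.inv_mem (hK hg)))
      (by simpa only [rc_rc_inv] using r1_rc h5.2.2 g⁻¹)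
    exact ⟨n * u⁻¹ * g, mul_mem (mul_mem hn (inv_mem (h1 hu))) hg, by rw [← rc_rc, ← rc_rc, h4, e, rc_inv_rc]⟩

theorem cent_conn (hk : PF k) (hx : QD G x) (hy : QD G y) (mu : MU x y) (h1 : ∀ g ∈ UG G mu, ν * g = g * ν)
    (h2 : ν * y = y * ν) {C : Subgroup (M →ₗ[k] M)ˣ} (h : Conn (quadraticRootSubgroups G) (EE G x hx.sq) C) :
    C ≤ Cent G ν := by
  have h3 : UG G mu ≤ Cent G ν := fun g hg => ⟨hg.1, h1 g hg⟩
  obtain ⟨g, hg, rfl⟩ := conn_conj hk hx hy mu (K := Cent G ν) (fun _ h => h.1) h3 ⟨hy.sq, fun t => by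
    obtain ⟨u, hu, e⟩ := hy.qe.mem t
    exact ⟨u, ⟨hu, by simp [e, mul_add, add_mul, h2]⟩, e⟩⟩ h
  exact rc_le_of_mem ((EE_le_UG mu).trans h3) hg

theorem UG_le_of (hk : PF k) (hx : QD G x) (hy : QD G y) (mu : MU x y)
    (hK : ∀ C, Conn (quadraticRootSubgroups G) (EE G x hx.sq) C → C ≤ K) : UG G mu ≤ K := by
  intro g hg
  have hy' := hy.conj hg.1
  have mu' := mu_conj mu g.inv_mul
  rw [UG_comm hg, Units.mul_inv_cancel_right] at mu'
  have hA := hK _ Relation.ReflTransGen.refl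
  have kx := qe_of_EE_le (InE.self hx.qe) hA
  have ky := qe_of_EE_le (InE.self hy.qe) (hK _ (conn_of_r1 hx.EE_mem hy.EE_mem (mu_r1 hk hx hy mu)))
  have ky' := qe_of_EE_le (InE.self hy'.qe) (hK _ (conn_of_r1 hx.EE_mem hy'.EE_mem (mu_r1 hk hx hy' mu')))
  have h3 : tor (x * (g * y * (g⁻¹ : (M →ₗ[k] M)ˣ))) (g * y * (g⁻¹ : (M →ₗ[k] M)ˣ) * x) (-1 : k) * g =
      g * tor (x * y) (y * x) (-1 : k) := by
    simp only [tor, add_mul, mul_add, sub_mul, mul_sub, smul_mul_assoc, mul_smul_comm, one_mul, mul_one, mul_assoc,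
      Units.inv_mul, ← UG_comm hg, Units.inv_mul_cancel_left, e3 (UG_comm hg).symm]
  have h4 := tor_mem mu' kx ky' (t := (-1 : k)) (by simp)
  obtain ⟨d1, d2⟩ := uu_split mu hg.2
  have e : (g : M →ₗ[k] M) = 1 + ((g : M →ₗ[k] M) - 1 - x * y * ((g : M →ₗ[k] M) - 1) * (y * x)) +
    x * y * ((g : M →ₗ[k] M) - 1) * (y * x) := by abel
  generalize (g : M →ₗ[k] M) - 1 - x * y * ((g : M →ₗ[k] M) - 1) * (y * x) = s at *
  generalize x * y * ((g : M →ₗ[k] M) - 1) * (y * x) = c at *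
  generalize tor (x * (g * y * (g⁻¹ : (M →ₗ[k] M)ˣ))) (g * y * (g⁻¹ : (M →ₗ[k] M)ˣ) * x) (-1 : k) = z' at *
  have h5 := ex_mem hk (id2_of_mu mu) d1 d2 (tor_mem mu kx ky (by simp)) h4 (e ▸ h3) 1
  have h6 := (up_split hk (id2_of_mu mu) d1 d2 (tor_mem mu hx.qe hy.qe (by simp)) (e ▸ InG.of_mem hg.1)).2
  have h7 := qe_of_EE_le (inE_of_d2 h6 (d2.sub ((d1.mul d1).smul _))) hA
  rw [one_smul] at h5
  exact InG.mem (e ▸ ex_mul_d2 (k := k) d1 d2 ▸ h5.mul h7.one_add)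

/-- quadratic elements normalize the components -/
theorem conn_quad (hk : PF k) (hG : NoUnip k G) (hν : QE k G ν) {A : Subgroup (M →ₗ[k] M)ˣ}
    (hA : A ∈ quadraticRootSubgroups G) : Conn (quadraticRootSubgroups G) A (A ^~ un ν hν.sq) := by
  obtain ⟨x, hx, rfl⟩ := mem_Sigma.1 hA
  obtain ⟨y, hy, mu⟩ := hx.exists_opp hk.two hk.card hG
  let K : Subgroup (M →ₗ[k] M)ˣ :=
    { carrier := {g | g ∈ G ∧ Conn (quadraticRootSubgroups G) (EE G x hx.sq) (EE G x hx.sq ^~ g)}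
      one_mem' := ⟨G.one_mem, by rw [rc_one]⟩
      mul_mem' := fun {g h} hg hh => ⟨G.mul_mem hg.1 hh.1, by
        rw [← rc_rc]; exact hh.2.trans (conn_nc (rc_of_mem hh.1) hg.2)⟩
      inv_mem' := fun {g} hg => ⟨G.inv_mem hg.1, by
        simpa only [rc_rc_inv] using (conn_nc (rc_of_mem (G.inv_mem hg.1)) hg.2).symm'⟩ }
  by_contra hn
  have key : ∀ t : k, t ≠ 0 → (1 - t • ν) * x * (1 + t • ν) * y = y * ((1 - t • ν) * x * (1 + t • ν)) := by
    intro t ht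
    have hg := (hν.smul t).un_mem
    have h1 : ¬ Conn (quadraticRootSubgroups G) (EE G x hx.sq) (EE G x hx.sq ^~ un _ (hν.smul t).sq) := fun h =>
      hn (qe_of_inG (G := K) hk hν.sq ht ⟨_, ⟨hg, h⟩, rfl⟩).un_mem.2
    have h2 := (Sigma_RS hk.two hk.card hG).cm_of_not_conn (Sigma_rc hA hg) hy.EE_mem fun h =>
      h1 ((conn_of_r1 hA hy.EE_mem (mu_r1 hk hx hy mu)).trans h.symm')
    rw [EE_rc hg] at h2
    exact sub_eq_zero.1 ((hx.conj' (InG.of_mem (G.inv_mem hg)) (Units.inv_mul _)).of_cm hy h2)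
  have h1 := key 1 one_ne_zero
  have h2 := key 2 hk.two
  have h3 := key 3 hk.three
  have h4 : x * y = y * x := by
    simp only [mul_add, add_mul, mul_sub, sub_mul, mul_one, one_mul, smul_mul_assoc, mul_smul_comm] at h1 h2 h3
    linear_combination (norm := module) (3 : k) • h1 - (3 : k) • h2 + h3
  exact hx.ne (by rw [← mu.efe, h4, mul_assoc, mu.ee, mul_zero])

end End

section Fin
variable {p : ℕ} [Fact p.Prime] {M : Type*} [AddCommGroup M] [Module (ZMod p) M] [Finite M]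
variable {G : Subgroup (M →ₗ[ZMod p] M)ˣ} {x y : M →ₗ[ZMod p] M}

theorem Sigma_unip' (hk : PF (ZMod p)) {D : Subgroup (M →ₗ[ZMod p] M)ˣ} (hD : D ∈ quadraticRootSubgroups G) :
    Unip (ZMod p) D := by
  obtain ⟨a, ha, rfl⟩ := mem_Sigma.1 hD
  exact (ha.unip hk.two ha (by rw [ha.sq, zero_mul])).mono le_sup_left

/-- `U(x)` normalizes only the root subgroup of `x` in its component -/
theorem fix_UG (hp : 3 < p) (hG : NoUnip (ZMod p) G) (hx : QD G x) (hy : QD G y) (mu : MU x y)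
    {D : Subgroup (M →ₗ[ZMod p] M)ˣ} (h : Conn (quadraticRootSubgroups G) (EE G x hx.sq) D)
    (hD : ∀ g ∈ UG G mu, D ^~ g = D) : D = EE G x hx.sq := by
  have hk := pf hp
  have i := id2_of_mu mu
  have hS := Sigma_RS hk.two hk.card hG
  have hDS := h.mem hx.EE_mem
  have uD := Sigma_unip' hk hDS
  obtain ⟨d, hd, d1, dc⟩ : ∃ d ∈ D, d ≠ 1 ∧ ∀ g ∈ UG G mu, g * d * g⁻¹ = d := by
    by_contra hcon
    push Not at hcon
    refine not_dvd_of_unique (fun (g d : (M →ₗ[ZMod p] M)ˣ) => g * d * g⁻¹) (by simp) (by simp [mul_assoc])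
      (isPGroup_of_unip (UG_unip (ZMod p) mu)) (Set.toFinite (D : Set (M →ₗ[ZMod p] M)ˣ))
      (fun g hg d hd => mem_rc.1 ((hD g hg).symm ▸ hd)) D.one_mem (by simp) (fun d hd h1 => ?_) ?_
    · by_contra h2
      obtain ⟨g, hg, h3⟩ := hcon d hd h2
      exact h3 (h1 g hg)
    · rw [← Nat.card_coe_set_eq]
      rcases (isPGroup_of_unip uD).card_eq_or_dvd with h1 | h1
      · exact absurd (Subgroup.card_eq_one.1 h1) (hS.ne D hDS)
      · exact h1
  have dG := Sigma_le hDS hd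
  have dc' : ∀ g ∈ UG G mu, g * d = d * g := fun g hg => mul_inv_eq_iff_eq_mul.1 (dc g hg)
  have dx : (d : M →ₗ[ZMod p] M) * x = x * d := by
    have := congrArg Units.val (dc' _ (EE_le_UG mu (InE.self hx.qe).un_mem))
    simpa [add_mul, mul_add] using this.symm
  have mu' := mu_conj mu d.inv_mul
  rw [dx, Units.mul_inv_cancel_right] at mu'
  obtain ⟨g, hg, e⟩ := exists_UG hk mu mu' hx.qe hy.qe (hy.qe.conj dG)
  set l := g⁻¹ * d with hl
  have lG : l ∈ G := mul_mem (inv_mem hg.1) dG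
  have lx : (l : M →ₗ[ZMod p] M) * x = x * l := by
    rw [hl, Units.val_mul, mul_assoc, dx, ← mul_assoc, UG_comm (inv_mem hg), mul_assoc]
  have ly : (l : M →ₗ[ZMod p] M) * y = y * l := by
    rw [hl, Units.val_mul, mul_assoc, ← Units.inv_mul_cancel_right (d * y) d, ← e]
    simp [mul_assoc]
  have le : (l : M →ₗ[ZMod p] M) * (x * y) = x * y * l := by rw [← mul_assoc, lx, mul_assoc, ly, mul_assoc]
  have lf : (l : M →ₗ[ZMod p] M) * (y * x) = y * x * l := by rw [← mul_assoc, ly, mul_assoc, lx, mul_assoc]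
  obtain ⟨d1', d2'⟩ := uu_split mu hg.2
  have eg : (g : M →ₗ[ZMod p] M) = 1 + ((g : M →ₗ[ZMod p] M) - 1 - x * y * ((g : M →ₗ[ZMod p] M) - 1) * (y * x)) +
    x * y * ((g : M →ₗ[ZMod p] M) - 1) * (y * x) := by abel
  generalize (g : M →ₗ[ZMod p] M) - 1 - x * y * ((g : M →ₗ[ZMod p] M) - 1) * (y * x) = s₀ at *
  generalize x * y * ((g : M →ₗ[ZMod p] M) - 1) * (y * x) = c₀ at *
  have gl : ∀ u ∈ UG G mu, (g : M →ₗ[ZMod p] M) * (l * u * (l⁻¹ : (M →ₗ[ZMod p] M)ˣ)) = u * g := by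
    intro u hu
    have : g * (l * u * l⁻¹) = u * g := by
      rw [hl, mul_assoc g⁻¹, ← dc' u hu]; group
    simpa only [Units.val_mul] using congrArg Units.val this
  have key : ∀ s, U1 (ZMod p) G (x * y) (y * x) s → (l : M →ₗ[ZMod p] M) * s = s * l ∧ s₀ * s = s * s₀ := by
    intro s hs
    have hs' := hs.conj (InG.of_mem lG) l.mul_inv le lf
    obtain ⟨u, hu, eu⟩ := inG_UG (mu := mu) (by rw [← add_assoc]; exact hs.mem)
      (uu_of_d mu hs.d ((hs.d.mul hs.d).smul (2 : ZMod p)⁻¹))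
    have h1 := gl u hu
    have h2 : (l : M →ₗ[ZMod p] M) * u * (l⁻¹ : (M →ₗ[ZMod p] M)ˣ) =
        Ex (ZMod p) (l * s * (l⁻¹ : (M →ₗ[ZMod p] M)ˣ)) := by
      simp [eu, Ex, mul_add, add_mul, mul_assoc, add_assoc]
    rw [h2, eg, eu] at h1
    have h3 : (l : M →ₗ[ZMod p] M) * s * (l⁻¹ : (M →ₗ[ZMod p] M)ˣ) = s := by
      have d := hs.d
      have d' := hs'.d
      generalize (l : M →ₗ[ZMod p] M) * s * (l⁻¹ : (M →ₗ[ZMod p] M)ˣ) = s' at *
      refine sub_eq_zero.1 ((d'.sub d).eq_zero i ?_)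
      convert (((d.mul d).smul (2 : ZMod p)⁻¹).add (d.mul d1')).sub
        (((d'.mul d').smul (2 : ZMod p)⁻¹).add (d1'.mul d')) using 1
      simp only [Ex, mul_add, add_mul, mul_one, one_mul, smul_mul_assoc, mul_smul_comm, mul_assoc, d1'.cube d' d',
        d2'.d1 d', z3 (d2'.d1 d'), d.cube d d1', d.d2 d2', mul_zero, smul_zero] at h1
      linear_combination (norm := module) h1
    refine ⟨(Units.mul_inv_eq_iff_eq_mul l).1 h3, ?_⟩
    have d := hs.d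
    rw [h3] at h1
    simp only [Ex, mul_add, add_mul, mul_one, one_mul, smul_mul_assoc, mul_smul_comm, mul_assoc, d1'.cube d d,
      d2'.d1 d, z3 (d2'.d1 d), d.cube d d1', d.d2 d2', mul_zero, smul_zero] at h1
    linear_combination (norm := module) h1
  have lU := comm_UG_of hk hx hy mu (fun s hs => (key s hs).1) fun c hc => by
    have h1 := gl _ (EE_le_UG mu hc.un_mem)
    have h2 : (g : M →ₗ[ZMod p] M) * c = c * g := by linear_combination (norm := noncomm_ring) uu_comm_inE hg.2 hc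
    rw [un_val, add_mul 1 c, one_mul, ← h2, ← mul_one_add, Units.mul_right_inj, Units.mul_inv_eq_iff_eq_mul] at h1
    simpa [mul_add, add_mul] using h1
  have gle : ∀ K, (∀ C, Conn (quadraticRootSubgroups G) (EE G x hx.sq) C → C ≤ K) → l ∈ K := fun K hK =>
    mul_mem (inv_mem (UG_le_of hk hx hy mu hK hg)) (hK D h hd)
  have l0 : l ∈ ⨆ B ∈ quadraticRootSubgroups G, B := gle _ fun C hC => le_biSup' (hC.mem hx.EE_mem)
  have lc : Cm (⨆ B ∈ quadraticRootSubgroups G, B) (Subgroup.zpowers l) := by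
    rw [cm_iff_le]
    refine iSup₂_le fun C hC => cm_iff_le.1 (Cm.symm (cm_iff_le.2 (Subgroup.zpowers_le.2 ?_)))
    by_cases h1 : Conn (quadraticRootSubgroups G) (EE G x hx.sq) C
    · exact fun c hc => Units.ext (cent_conn hk hx hy mu lU ly h1 hc).2.symm
    · exact gle _ fun C' hC' => cm_iff_le.1 (hS.cm_of_not_conn (hC'.mem hx.EE_mem) hC fun h2 => h1 (hC'.trans h2))
  have l1 : Subgroup.zpowers l = ⊥ :=
    hG.normal (iSup₂_le fun _ => Sigma_le) (fun _ => Sigma_normal) _ (Subgroup.zpowers_le.2 l0)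
      ((uD.sup (UG_unip _ mu) hD).mono (Subgroup.zpowers_le.2
        (mul_mem (inv_mem (Subgroup.mem_sup_right hg)) (Subgroup.mem_sup_left hd))))
      fun g hg => lc.symm.rc_eq hg
  rw [Subgroup.zpowers_eq_bot, hl, inv_mul_eq_one] at l1
  obtain ⟨a, ha, rfl⟩ := mem_Sigma.1 hDS
  have ia : InE G a (s₀ + c₀) := by
    have := mem_EE.1 hd
    rwa [← l1, eg, add_assoc, add_sub_cancel_left] at this
  have n0 : s₀ + c₀ ≠ 0 := fun h0 => d1 (Units.ext (by rw [← l1, eg, add_assoc, h0, add_zero]; rfl))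
  have sq : s₀ * s₀ = 0 := by
    simpa [mul_add, add_mul, d1'.d2 d2', d2'.d1 d1', d2'.d2 i d2'] using ia.qe.sq
  have h5 := (up_split hk i d1' d2' (tor_mem mu hx.qe hy.qe (by simp)) (eg ▸ InG.of_mem hg.1)).1 1
  rw [one_smul, ex_of_sq sq] at h5
  have h6 := rad hp hG mu hx.qe hy (qe_of_inG' hk sq h5) d1' fun s hs => (key s hs).2
  rw [h6, zero_add] at ia n0
  exact EE_congr ((ia.sim ha n0).symm.trans ((inE_of_d2 ia.qe d2').sim hx n0))

end Fin

end Cfsg.Agent.FZJ
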