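import Cfsg.Agent.FZJ.Ring
import Cfsg.Agent.FZJ.Count

/-! Equivariant ZJ: the group `U(x)`, graded partners and the radical of the degree one part. -/

set_option autoImplicit false
set_option linter.unusedSimpArgs false
set_option linter.unnecessarySeqFocus false

namespace Cfsg.Agent.FZJ
open Cfsg.Agent.H90 LinearMap

section Ring
variable {k : Type*} [Field k] {A : Type*} [Ring A] [Algebra k A] {G : Subgroup Aˣ}
variable {e f s c x y x' y' u v w : A}

theorem uu_add (h : UU x y u) (h' : UU x y v) : UU x y (u + v) :=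
  ⟨by rw [mul_add, h.l, h'.l, add_zero], by rw [add_mul, h.r, h'.r, add_zero],
    by rw [mul_add, add_mul, h.m, h'.m, add_zero]⟩

theorem uu_smul (h : UU x y u) (t : k) : UU x y (t • u) := ⟨by simp [h.l], by simp [h.r], by simp [h.m]⟩

theorem uu_mul (mu : MU x y) (h : UU x y u) (h' : UU x y v) : UU x y (u * v) :=
  ⟨by rw [← mul_assoc, h.l, zero_mul], by rw [mul_assoc, h'.r, mul_zero], by
    rw [h.mul_left h'.l]; simp [sub_mul, mul_assoc, e4 mu.efe]⟩

theorem uu_neg (h : UU x y u) : UU x y (-u) := ⟨by simp [h.l], by simp [h.r], by simp [h.m]⟩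

theorem uu_congr (h : UU x y u) (h1 : x * y * x' = x') (h2 : x' * (y * x) = x') (h3 : x' * y' * x = x)
    (h4 : x * (y' * x') = x) : UU x' y' u := by
  refine ⟨by rw [← h2, mul_assoc, mul_assoc, h.l]; simp, by rw [← h1, ← mul_assoc, ← mul_assoc, h.r]; simp, ?_⟩
  have e1 : (1 - x' * y') * (1 - x * y) = 1 - x' * y' := by linear_combination (norm := noncomm_ring) h3 * y
  have e2 : (1 - y * x) * (1 - y' * x') = 1 - y' * x' := by linear_combination (norm := noncomm_ring) y * h4
  rw [← e1, ← e2]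
  linear_combination (norm := noncomm_ring) (1 - x' * y') * h.m * (1 - y' * x')

theorem uu_conj (h : UU x y u) {g g' : A} (hg : g' * g = 1) (hg' : g * g' = 1) :
    UU (g * x * g') (g * y * g') (g * u * g') := by
  refine ⟨by simp [mul_assoc, e3 hg, z3 h.l], by simp [mul_assoc, e3 hg, z3 h.r], ?_⟩
  have : (1 - g * x * g' * (g * y * g')) * (g * u * g') * (1 - g * y * g' * (g * x * g')) =
      g * ((1 - x * y) * u * (1 - y * x)) * g' := by
    simp only [mul_sub, sub_mul, mul_assoc, e3 hg, one_mul, mul_one]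
  rw [this, h.m]; simp

theorem mu_conj (h : MU x y) {g g' : A} (hg : g' * g = 1) : MU (g * x * g') (g * y * g') :=
  ⟨by simp [mul_assoc, e3 hg, z3 h.ee], by simp [mul_assoc, e3 hg, z3 h.ff], by simp [mul_assoc, e3 hg, e4 h.efe],
    by simp [mul_assoc, e3 hg, e4 h.fef]⟩

/-- the group `U(x)` -/
def UG (G : Subgroup Aˣ) (mu : MU x y) : Subgroup Aˣ where
  carrier := {g | g ∈ G ∧ UU x y ((g : A) - 1)}
  one_mem' := ⟨G.one_mem, by simp, by simp, by simp⟩
  mul_mem' := fun {g h} hg hh => ⟨G.mul_mem hg.1 hh.1, by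
    convert uu_add (uu_add hg.2 hh.2) (uu_mul mu hg.2 hh.2) using 1
    rw [Units.val_mul]; noncomm_ring⟩
  inv_mem' := fun {g} hg => ⟨G.inv_mem hg.1, by
    convert uu_add (uu_neg hg.2) (uu_mul mu hg.2 hg.2) using 1
    rw [sub_eq_iff_eq_add]
    apply Units.inv_eq_of_mul_eq_one_right
    linear_combination (norm := noncomm_ring) UU.triple hg.2.r hg.2 hg.2.l⟩

theorem mem_UG {mu : MU x y} {g : Aˣ} : g ∈ UG G mu ↔ g ∈ G ∧ UU x y ((g : A) - 1) := Iff.rfl

theorem UG_le {mu : MU x y} : UG G mu ≤ G := fun _ h => h.1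

theorem UG_comm {mu : MU x y} {g : Aˣ} (h : g ∈ UG G mu) : (g : A) * x = x * g := by
  linear_combination (norm := noncomm_ring) h.2.r - h.2.l

theorem inG_UG {mu : MU x y} (h : InG G (1 + u)) (hu : UU x y u) : InG (UG G mu) (1 + u) := by
  obtain ⟨g, hg, e⟩ := h
  exact ⟨g, ⟨hg, by rwa [e, add_sub_cancel_left]⟩, e⟩

variable (k) in
theorem UG_unip (mu : MU x y) : Unip k (UG G mu) := by
  let N : Submodule k A :=
    { carrier := {u | UU x y u}
      add_mem' := uu_add
      zero_mem' := ⟨by simp, by simp, by simp⟩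
      smul_mem' := fun t _ h => uu_smul h t }
  refine unip_of_le (N := N) (n := 3) ?_ (nn_le.2 fun g hg => hg.2)
  rw [eq_bot_iff, pow_succ', pow_two, Submodule.mul_le]
  intro a ha b hb
  refine Submodule.mul_induction_on hb (fun b hb c hc => UU.triple ha.r hb hc.l) fun b c hb hc => ?_
  rw [mul_add]; exact add_mem hb hc

theorem exists_UG (hk : PF k) (mu : MU x y) (mu' : MU x y') (hx : QE k G x) (hy : QE k G y) (hy' : QE k G y') :
    ∃ g ∈ UG G mu, (g : A) * y * (g⁻¹ : Aˣ) = y' := by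
  obtain ⟨u, h1, h2, h3⟩ := partner_trans hk mu mu' hx hy hy'
  obtain ⟨g, hg, e⟩ := inG_UG (mu := mu) h2 h1
  exact ⟨g, hg, by rw [← e] at h3; rw [h3, Units.mul_inv_cancel_right]⟩

theorem tor_symm (t : k) : tor f e t⁻¹ = tor e f t := by simp only [tor, inv_inv]; abel

theorem comp_zero {T a b : A} {m l l' : k} (h : m • (T * v) = v * T) (h1 : a * T = l • a) (h2 : T * b = l' • b)
    (hne : m * l ≠ l') : a * (v * b) = 0 := by
  have h3 : (m * l - l') • (a * (v * b)) = 0 := by
    have := congrArg (fun z => a * (z * b)) h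
    simp only [smul_mul_assoc, mul_smul_comm, mul_assoc, e3 h1, h2] at this
    rw [sub_smul, mul_smul, this, sub_self]
  exact (smul_eq_zero.1 h3).resolve_left (sub_ne_zero.2 hne)

theorem tor_idem (i : Id2 e f) (t : k) :
    (e * tor e f t = t • e ∧ tor e f t * e = t • e) ∧ (f * tor e f t = t⁻¹ • f ∧ tor e f t * f = t⁻¹ • f) ∧
      (1 - e - f) * tor e f t = (1 : k) • (1 - e - f) ∧ tor e f t * (1 - e - f) = (1 : k) • (1 - e - f) := by
  simp [tor, mul_add, add_mul, mul_sub, sub_mul, i.ee, i.ff, i.ef, i.fe]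
  abel

theorem deg_zero (i : Id2 e f) {t : k} (h0 : t ≠ 0) (ht : t ^ 2 ≠ 1) (h : (1 : k) • (tor e f t * v) = v * tor e f t) :
    v * e = e * v ∧ v * f = f * v := by
  obtain ⟨⟨e1, e2⟩, ⟨f1, f2⟩, q1, q2⟩ := tor_idem i t
  have n1 : t ≠ 1 := fun h => ht (by simp [h])
  have n2 : t ≠ t⁻¹ := fun h => ht (by rw [sq]; nth_rw 1 [h]; exact inv_mul_cancel₀ h0)
  have n3 : t⁻¹ ≠ 1 := by simpa using n1
  have a1 := comp_zero h e1 q2 (by simpa using n1)
  have a2 := comp_zero h e1 f2 (by simpa using n2)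
  have a3 := comp_zero h q1 e2 (by simpa using n1.symm)
  have a4 := comp_zero h f1 e2 (by simpa using n2.symm)
  have a5 := comp_zero h f1 q2 (by simpa using n1)
  have a6 := comp_zero h q1 f2 (by rw [mul_one]; exact n3.symm)
  exact ⟨by linear_combination (norm := noncomm_ring) a3 + a4 - a1 - a2,
    by linear_combination (norm := noncomm_ring) a6 + a2 - a5 - a4⟩

theorem deg_one (i : Id2 e f) {t : k} (h0 : t ≠ 0) (ht : t ^ 2 ≠ 1) (h : t⁻¹ • (tor e f t * v) = v * tor e f t) :
    D1 e f (v - f * (v * e)) := by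
  obtain ⟨⟨e1, e2⟩, ⟨f1, f2⟩, q1, q2⟩ := tor_idem i t
  have n1 : t ≠ 1 := fun h => ht (by simp [h])
  have n2 : t ≠ t⁻¹ := fun h => ht (by rw [sq]; nth_rw 1 [h]; exact inv_mul_cancel₀ h0)
  have n3 : t⁻¹ ≠ 1 := by simpa using n1
  have a1 := comp_zero h e1 e2 (by rw [inv_mul_cancel₀ h0]; exact n1.symm)
  have a2 := comp_zero h e1 f2 (by rw [inv_mul_cancel₀ h0]; exact n3.symm)
  have a3 := comp_zero h q1 e2 (by rw [mul_one]; exact n2.symm)
  have a4 := comp_zero h q1 q2 (by rw [mul_one]; exact n3)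
  have a5 := comp_zero h f1 q2 (by rw [← mul_inv, ← sq]; simpa using ht)
  have a6 := comp_zero h f1 f2 (by simpa [h0] using n1)
  exact ⟨by linear_combination (norm := noncomm_ring) a5 + a6 - i.ff * v * e,
    by linear_combination (norm := noncomm_ring) a1 + a3 - f * v * i.ee,
    by linear_combination (norm := noncomm_ring) a2 - i.ef * v * e * f,
    by linear_combination (norm := noncomm_ring) a2 - a3 - a4 - a5 - i.ef * v * e - f * v * i.ef⟩

end Ring

theorem pf {p : ℕ} [hp : Fact p.Prime] (h : 3 < p) : PF (ZMod p) := by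
  have key : ∀ n : ℕ, 0 < n → n < p → (n : ZMod p) ≠ 0 := fun n h0 h1 h2 =>
    absurd (Nat.le_of_dvd h0 ((ZMod.natCast_eq_zero_iff n p).1 h2)) (not_le.2 h1)
  exact ⟨fun c => ⟨c.val, ZMod.natCast_zmod_val c⟩, by exact_mod_cast key 2 (by norm_num) (by omega),
    by exact_mod_cast key 3 (by norm_num) h, by rw [Nat.card_zmod]; omega⟩

section End
variable {p : ℕ} [Fact p.Prime] {M : Type*} [AddCommGroup M] [Module (ZMod p) M] [Finite M]
variable {G : Subgroup (M →ₗ[ZMod p] M)ˣ} {x y w η : M →ₗ[ZMod p] M}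

instance finite_end : Finite (M →ₗ[ZMod p] M) := Finite.of_injective _ DFunLike.coe_injective

theorem not_dvd_of_dvd {Γ : Type*} [Group Γ] {H : Subgroup Γ} [Finite H] (hH : IsPGroup p H) {s n : ℕ} (hs : s.Prime)
    (hsp : s ≠ p) (h : n ∣ Nat.card H) : ¬ s ∣ n := by
  obtain ⟨j, hj⟩ := IsPGroup.iff_card.1 hH
  intro h1
  exact hsp ((Nat.prime_dvd_prime_iff_eq hs Fact.out).1 (hs.dvd_of_dvd_pow (hj ▸ h1.trans h)))

theorem graded_partner (hp : 3 < p) (hG : NoUnip (ZMod p) G) (mu : MU x y) (hx : QE (ZMod p) G x)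
    (hy : QE (ZMod p) G y) (hw : QD G w) (χ : ZMod p → ZMod p) (χ1 : χ 1 = 1) (χm : ∀ a b, χ (a * b) = χ a * χ b)
    (h : ∀ t : ZMod p, t ≠ 0 → tor (x * y) (y * x) t * w = χ t • (w * tor (x * y) (y * x) t)) :
    ∃ t : ZMod p, t ≠ 0 ∧ t ^ 2 ≠ 1 ∧ ∃ v, QE (ZMod p) G v ∧ MU w v ∧
      χ t • (tor (x * y) (y * x) t * v) = v * tor (x * y) (y * x) t := by
  have hk := pf hp
  have i := id2_of_mu mu
  obtain ⟨s, j, t, hs, hsp, ht1, ht2⟩ := exists_torus hp
  have := Fact.mk hs
  obtain ⟨v₀, hv₀, mu₀⟩ := hw.exists_opp hk.two hk.card hG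
  let S : Set (M →ₗ[ZMod p] M) := {v | QE (ZMod p) G v ∧ MU w v}
  have h1 : S.ncard ∣ Nat.card (UG G mu₀) := by
    refine orbit_dvd (fun (g : (M →ₗ[ZMod p] M)ˣ) (v : M →ₗ[ZMod p] M) => g * v * (g⁻¹ : (M →ₗ[ZMod p] M)ˣ))
      (by simp) (by simp [mul_assoc]) _ v₀ fun b => ⟨fun hb => exists_UG hk mu₀ hb.2 hw.qe hv₀.qe hb.1, ?_⟩
    rintro ⟨g, hg, rfl⟩
    refine ⟨hv₀.qe.conj hg.1, ?_⟩
    have := mu_conj mu₀ g.inv_mul
    rwa [UG_comm hg, Units.mul_inv_cancel_right] at this
  have h2 := not_dvd_of_dvd (isPGroup_of_unip (UG_unip _ mu₀)) hs hsp h1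
  have hH : IsPGroup s (Subgroup.zpowers t) := by
    rintro ⟨g, hg⟩
    obtain ⟨n, rfl⟩ := Subgroup.mem_zpowers_iff.1 hg
    refine ⟨j, Subtype.ext ?_⟩
    show (t ^ n) ^ s ^ j = 1
    rw [← zpow_natCast, ← zpow_mul, mul_comm, zpow_mul, zpow_natCast, ht1, one_zpow]
  obtain ⟨v, hv, hfix⟩ := fixed_of_not_dvd (fun (a : (ZMod p)ˣ) (v : M →ₗ[ZMod p] M) =>
    χ a • (tor (x * y) (y * x) (a : ZMod p) * v * tor (x * y) (y * x) (a : ZMod p)⁻¹)) (by simp [χ1, tor_one])
    (fun a b v => by
      simp only [Units.val_mul, χm, mul_smul, mul_smul_comm, smul_mul_assoc, ← tor_mul i, mul_inv_rev, mul_assoc])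
    hH (Set.toFinite S) (fun a _ v hv => by
      have e1 := tor_inv i a.ne_zero
      have e2 := mul_eq_one_comm.1 e1
      refine ⟨(hv.1.conj' (tor_mem mu hx hy a.ne_zero) e1).smul _, ?_⟩
      have m := mu_conj hv.2 e2
      rw [h _ a.ne_zero, smul_mul_assoc, mul_assoc w, e1, mul_one] at m
      have c0 : χ a ≠ 0 := left_ne_zero_of_mul_eq_one (by rw [← χm, mul_inv_cancel₀ a.ne_zero, χ1])
      generalize tor (x * y) (y * x) (a : ZMod p) * v * tor (x * y) (y * x) (a : ZMod p)⁻¹ = v' at m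
      refine ⟨hw.sq, by simp [m.ff], ?_, ?_⟩
      · have := m.efe
        simp only [smul_mul_assoc, mul_smul_comm] at this ⊢
        exact smul_right_injective _ c0 this
      · have := m.fef
        simp only [smul_mul_assoc, mul_smul_comm] at this ⊢
        rw [this]) h2
  refine ⟨t, t.ne_zero, fun e => ht2 (Units.ext (by simpa using e)), v, hv.1, hv.2, ?_⟩
  have h3 := hfix t (Subgroup.mem_zpowers t)
  conv_rhs => rw [← h3]
  rw [smul_mul_assoc, mul_assoc, mul_eq_one_comm.1 (tor_inv i t.ne_zero), mul_one]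

/-- the radical of the degree one part contains no quadratic element -/
theorem rad (hp : 3 < p) (hG : NoUnip (ZMod p) G) (mu : MU x y) (hx : QE (ZMod p) G x) (hy : QD G y)
    (hη : QE (ZMod p) G η) (d : D1 (x * y) (y * x) η)
    (hc : ∀ s, U1 (ZMod p) G (x * y) (y * x) s → η * s = s * η) : η = 0 := by
  have hk := pf hp
  have i := id2_of_mu mu
  have dy := d2_of_mu mu.symm
  have hz := tor_mem mu hx hy.qe (t := (-1 : ZMod p)) (by simp)
  have yηy : y * η * y = 0 := by
    linear_combination (norm := noncomm_ring) y * d.m * y - mu.fef * η * y * x * y - y * η * mu.fef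
  obtain ⟨q1, q2⟩ := QE.nil hk.two hη hy.qe yηy
  have ty : ∀ t : ZMod p, tor (x * y) (y * x) t * y = t⁻¹ • y ∧ y * tor (x * y) (y * x) t = t • y := fun t => by
    simpa only [tor_symm, inv_inv] using tor_d2 i.symm dy t⁻¹
  have h1 : η * y * η = 0 := by
    by_contra h0
    obtain ⟨t, t0, t2, v, hv, m, hd⟩ := graded_partner hp hG mu hx hy.qe
      (hy.of_le q1 h0 ((rk_mul_le_left _ _).trans (rk_mul_le_right _ _))) (fun _ => 1) rfl (by simp) fun t t0 => by
        have a := tor_d1 d t0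
        have b : y * (η * tor (x * y) (y * x) t) = y * η := by
          apply smul_right_injective _ t0
          simp only [← mul_smul_comm, ← a]
          rw [← mul_assoc, (ty t).2, smul_mul_assoc, mul_smul_comm]
        simp only [mul_assoc, e3 a, smul_mul_assoc, e3 (ty t).1, mul_smul_comm, smul_smul, mul_inv_cancel₀ t0, b]
    obtain ⟨c1, c2⟩ := deg_zero i t0 t2 hd
    have h2 := hc _ (U1.bracket hk i hz ⟨d, by rw [ex_of_sq hη.sq]; exact hη.one_add⟩ hv c1 c2)
    have h3 : η * v * η = 0 := by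
      apply smul_right_injective _ hk.two
      simp only [two_smul, add_zero]
      linear_combination (norm := noncomm_ring) h2 + hη.sq * v - v * hη.sq + v * hη.sq + v * hη.sq
    apply h0
    linear_combination (norm := noncomm_ring) -m.efe + η * y * h3 * y * η
  have xη : x * η = 0 := (d2_of_mu mu).d1 d
  have ηx : η * x = 0 := d.d2 (d2_of_mu mu)
  have h4 : η * y - y * η = 0 := by
    by_contra h0
    have d' : D1 (y * x) (x * y) (η * y - y * η) := by
      refine ⟨?_, ?_, ?_, ?_⟩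
      · linear_combination (norm := noncomm_ring) x * yηy - x * mu.ff * η
      · linear_combination (norm := noncomm_ring) η * mu.ff * x - yηy * x
      · linear_combination (norm := noncomm_ring) y * xη * y * x * y - y * x * y * ηx * y
      · linear_combination (norm := noncomm_ring) y * xη * y - mu.fef * η + η * mu.fef - y * ηx * y
    have hr : rk (η * y - y * η) ≤ rk y := by
      have r1 := rk_add_le (η * y) (-(y * η))
      have r2 := rk_mul_add η y
      have r3 : rk (-(y * η)) ≤ Module.finrank (ZMod p) ↥(range y ⊓ ker η) :=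
        Submodule.finrank_mono (by
          rw [range_neg]
          exact le_inf (range_mul_le _ _) (mul_eq_zero_iff_le.1 (by rw [← mul_assoc, h1])))
      rw [sub_eq_add_neg]; omega
    obtain ⟨t, t0, t2, v, hv, m, hd⟩ := graded_partner hp hG mu hx hy.qe (hy.of_le q2 h0 hr) (fun t => t⁻¹) inv_one
      (fun a b => mul_inv a b) fun t t0 => by simpa only [tor_symm] using tor_d1 d' (inv_ne_zero t0)
    have dv : D1 (x * y) (y * x) v := by
      have d1 := deg_one i t0 t2 hd
      have d2 : D2 (y * x) (x * y) (y * x * (v * (x * y))) :=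
        ⟨by rw [← mul_assoc, i.ff], by rw [mul_assoc, mul_assoc v, i.ee]⟩
      have d3 : y * x * v = 0 := by
        linear_combination (norm := noncomm_ring) -(y * x * m.fef) + d1.l * (η * y - y * η) * v +
          y * x * d2.d1 d' * v
      rwa [← mul_assoc, d3, zero_mul, sub_zero] at d1
    have h2 := hc v ⟨dv, by rw [ex_of_sq hv.sq]; exact hv.one_add⟩
    have h7 : η * v = 0 := by
      apply smul_right_injective _ hk.two
      simp only [two_smul, add_zero]
      linear_combination (norm := noncomm_ring) -(η * m.fef) - m.fef * η + h2 + d.cube dv d * y * v -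
        v * y * d.cube dv d - η * v * y * h2 - h2 * y * v * η
    have h8 : v = 0 := by
      linear_combination (norm := noncomm_ring) -m.fef - h2 * y * v + h7 * y * v - v * y * h7
    apply h0
    rw [← m.efe, h8, mul_zero, zero_mul]
  linear_combination (norm := noncomm_ring) -d.s - x * h4 + xη * y + h4 * x + y * ηx

end End

end Cfsg.Agent.FZJ
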