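import Cfsg.Agent.FZJ.Step
import Cfsg.Agent.FZJ.Count
import Cfsg.Agent.S0025

/-! Equivariant ZJ: reduction to the irreducible case. -/

set_option autoImplicit false

namespace Cfsg.Agent.FZJ
open Cfsg.Agent.H90

universe u

/-- an invariant `p`-subgroup lies in an invariant Sylow subgroup -/
theorem exists_syl {X : Type*} [Group X] [Finite X] {p r : ℕ} [Fact p.Prime] [Fact r.Prime] {K R U : Subgroup X}
    (hR : IsPGroup r R) (hc : (Nat.card K).Coprime r) (hn : R ≤ Subgroup.normalizer (K : Set X)) (hU : U ≤ K)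
    (hp : IsPGroup p U) (hn' : R ≤ Subgroup.normalizer (U : Set X)) :
    ∃ P : Sylow p K, U ≤ (P : Subgroup K).map K.subtype ∧
      R ≤ Subgroup.normalizer ((P : Subgroup K).map K.subtype : Set X) := by
  obtain ⟨n, hn2⟩ := hR.exists_card_eq
  have := hR.isNilpotent
  exact S0025.result R K hn (hn2 ▸ (hc.symm.pow_left n)) (Or.inl inferInstance) p U hU hp hn'

theorem Hyp.map {X X' : Type*} [Group X] [Finite X] [Group X'] {p r : ℕ} [Fact p.Prime] [Fact r.Prime]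
    {G R : Subgroup X} {a : X} (h : Hyp p r G R a) (f : X →* X') : Hyp p r (G.map f) (R.map f) (f a) := by
  refine ⟨h.rp.map f, h.cop.coprime_dvd_left (Subgroup.card_map_dvd G f),
    (Subgroup.map_mono h.norm).trans (Subgroup.le_normalizer_map f), ⟨a, h.mem, rfl⟩, fun Q h1 h2 h3 => ?_⟩
  obtain ⟨P, -, hP⟩ := exists_syl (p := p) (K := G ⊓ Q.comap f) (U := ⊥) h.rp
    (h.cop.coprime_dvd_left (Subgroup.card_dvd_of_le inf_le_left))
    ((le_inf h.norm ((Subgroup.map_le_iff_le_comap.1 h3).trans (Subgroup.le_normalizer_comap f))).trans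
      Subgroup.inf_normalizer_le_normalizer_inf) bot_le IsPGroup.of_bot (Subgroup.le_normalizer_of_normal ..)
  have h4 := (h.sup _ ((Subgroup.map_subtype_le _).trans inf_le_left) (P.2.map _) hP).map f
  rw [Subgroup.map_sup, MonoidHom.map_zpowers] at h4
  refine h4.to_le (sup_le_sup_right (fun y hy => ?_) _)
  let φ : ↥(G ⊓ Q.comap f) →* Q := (f.comp (G ⊓ Q.comap f).subtype).codRestrict Q fun x => x.2.2
  have h5 : Function.Surjective φ := fun z => by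
    obtain ⟨x, hx, e⟩ := h1 z.2
    exact ⟨⟨x, hx, show f x ∈ Q from e ▸ z.2⟩, Subtype.ext e⟩
  obtain ⟨x, hx, e⟩ := ((P.mapSurjective h5).is_maximal' (h2.to_subgroup ⊤) le_top).le (Subgroup.mem_top ⟨y, hy⟩)
  exact ⟨x, ⟨x, hx, rfl⟩, congrArg Subtype.val e⟩

theorem Hyp.subgroupOf {X : Type*} [Group X] {p r : ℕ} {G R Y : Subgroup X} {a : X} (h : Hyp p r G R a) (h1 : G ≤ Y)
    (h2 : R ≤ Y) : Hyp p r (G.subgroupOf Y) (R.subgroupOf Y) ⟨a, h1 h.mem⟩ := by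
  refine ⟨h.rp.comap_subtype, by rw [Nat.card_congr (Subgroup.subgroupOfEquivOfLe h1).toEquiv]; exact h.cop,
    (Subgroup.comap_mono h.norm).trans (Subgroup.le_normalizer_comap _), h.mem, fun Q h3 h4 h5 => ?_⟩
  have h6 := h.sup (Q.map Y.subtype) (Subgroup.map_le_iff_le_comap.2 h3) (h4.map _)
    fun x hx => Subgroup.le_normalizer_map _ ⟨⟨x, h2 hx⟩, h5 hx, rfl⟩
  refine (h6.comap_subtype (K := Y)).to_le (Subgroup.map_le_iff_le_comap.1 ?_)
  rw [Subgroup.map_sup, MonoidHom.map_zpowers]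
  rfl

theorem InOp.of_two {X X₁ X₂ : Type*} [Group X] [Group X₁] [Group X₂] {p : ℕ} {G Y : Subgroup X} (hY : G ≤ Y) {a : Y}
    (ha : a.1 ∈ G) (f₁ : Y →* X₁) (f₂ : Y →* X₂) (h₁ : InOp p ((G.subgroupOf Y).map f₁) (f₁ a))
    (h₂ : InOp p ((G.subgroupOf Y).map f₂) (f₂ a)) (h : ∀ y, f₁ y = 1 → f₂ y = 1 → y ^ p = 1) : InOp p G a.1 := by
  obtain ⟨T₁, -, a2, a3, a4⟩ := h₁
  obtain ⟨T₂, -, b2, b3, b4⟩ := h₂
  refine ⟨(G.subgroupOf Y ⊓ (T₁.comap f₁ ⊓ T₂.comap f₂)).map Y.subtype, Subgroup.map_le_iff_le_comap.2 inf_le_left,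
    IsPGroup.map (fun x => ?_) _, ⟨a, ⟨ha, a3, b3⟩, rfl⟩, fun g hg => Subgroup.le_normalizer_map _ ⟨⟨g, hY hg⟩,
      Subgroup.inf_normalizer_le_normalizer_inf ⟨Subgroup.le_normalizer hg, Subgroup.inf_normalizer_le_normalizer_inf
        ⟨Subgroup.le_normalizer_comap _ (a4 ⟨_, hg, rfl⟩), Subgroup.le_normalizer_comap _ (b4 ⟨_, hg, rfl⟩)⟩⟩, rfl⟩⟩
  obtain ⟨i, hi⟩ := a2 ⟨_, x.2.2.1⟩
  obtain ⟨j, hj⟩ := b2 ⟨_, x.2.2.2⟩
  have hi : f₁ x ^ p ^ i = 1 := congrArg Subtype.val hi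
  have hj : f₂ x ^ p ^ j = 1 := congrArg Subtype.val hj
  refine ⟨i + j + 1, Subtype.ext ?_⟩
  rw [SubgroupClass.coe_pow, pow_succ, pow_mul]
  exact h _ (by rw [map_pow, pow_add, pow_mul, hi, one_pow]) (by rw [map_pow, pow_add, mul_comm, pow_mul, hj, one_pow])

theorem core_aux {p r : ℕ} [Fact p.Prime] [Fact r.Prime] (hp : 3 < p) (hrp : r ≠ p) (n : ℕ) :
    ∀ (M : Type u) [AddCommGroup M] [Module (ZMod p) M] [Finite M] (G R : Subgroup (M →ₗ[ZMod p] M)ˣ)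
      (a : (M →ₗ[ZMod p] M)ˣ), Nat.card G + Nat.card M = n → Hyp p r G R a →
      ((a : M →ₗ[ZMod p] M) - 1) * ((a : M →ₗ[ZMod p] M) - 1) = 0 → InOp p G a := by
  induction n using Nat.strong_induction_on with
  | _ n ih =>
  intro M _ _ _ G R a hn h hq
  have : Finite (M →ₗ[ZMod p] M) := Finite.of_injective _ DFunLike.coe_injective
  by_cases h1 : a = 1
  · exact ⟨⊥, bot_le, IsPGroup.of_bot, Subgroup.mem_bot.2 h1, Subgroup.le_normalizer_of_normal ..⟩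
  by_cases h2 : IsIrreducibleFor (G ⊔ R)
  · refine (h1 (step hp hrp h hq ((noUnip_of_irr h2).normal le_sup_left fun g hg =>
      rc_eq_self_iff_mem_normalizer.2 (sup_le Subgroup.le_normalizer h.norm hg)) fun Y hY hY' =>
      ih _ ?_ M Y R a rfl hY' hq)).elim
    have := Set.ncard_lt_ncard (s := (Y : Set (M →ₗ[ZMod p] M)ˣ)) (t := G) hY
    change Nat.card Y < Nat.card G at this
    omega
  obtain ⟨W, hW, h3, h4⟩ : ∃ W : Submodule (ZMod p) M, (∀ g ∈ G ⊔ R, ∀ w ∈ W, (g : M →ₗ[ZMod p] M) w ∈ W) ∧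
      W ≠ ⊥ ∧ W ≠ ⊤ := by
    by_contra! hc
    refine h2 ⟨by_contra fun e => h1 (Units.ext (LinearMap.ext fun m => ?_)),
      fun W hW => or_iff_not_imp_left.2 (hc W hW)⟩
    push Not at e
    exact (e _).trans (e _).symm
  let ρ : Representation (ZMod p) ↥(G ⊔ R) M := (Units.coeHom _).comp (G ⊔ R).subtype
  have hρ : ∀ g, W ≤ W.comap (ρ g) := fun g w hw => hW g g.2 w hw
  have h5 := h.subgroupOf (Y := G ⊔ R) le_sup_left le_sup_right
  have h6 : ∀ {X' : Type u} [Group X'] (f : ↥(G ⊔ R) →* X'), Nat.card ((G.subgroupOf (G ⊔ R)).map f) ≤ Nat.card G :=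
    fun f => (Nat.le_of_dvd Nat.card_pos (Subgroup.card_map_dvd _ f)).trans
      (Nat.card_congr (Subgroup.subgroupOfEquivOfLe le_sup_left).toEquiv).le
  have : Finite (M ⧸ W) := Finite.of_surjective _ W.mkQ_surjective
  have h7 := Submodule.card_eq_card_quotient_mul_card W
  have h8 : 1 < Nat.card W := by
    have := Submodule.nontrivial_iff_ne_bot.2 h3
    exact Finite.one_lt_card
  have h9 : 1 < Nat.card (M ⧸ W) := by
    have := Submodule.Quotient.nontrivial_iff.2 h4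
    exact Finite.one_lt_card
  refine InOp.of_two (a := ⟨a, Subgroup.mem_sup_left h.mem⟩) le_sup_left h.mem (ρ.subrepresentation W hρ).toHomUnits
    (ρ.quotient W hρ).toHomUnits (ih _ ?_ W _ _ _ rfl (h5.map _) ?_) (ih _ ?_ (M ⧸ W) _ _ _ rfl (h5.map _) ?_)
    fun y e1 e2 => ?_
  · have := h6 (ρ.subrepresentation W hρ).toHomUnits
    nlinarith
  · exact LinearMap.ext fun w => Subtype.ext (LinearMap.congr_fun hq w.1)
  · have := h6 (ρ.quotient W hρ).toHomUnits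
    nlinarith
  · refine LinearMap.ext fun w => ?_
    obtain ⟨m, rfl⟩ := W.mkQ_surjective w
    exact (congrArg W.mkQ (LinearMap.congr_fun hq m) :)
  · have e3 : ((y.1 : M →ₗ[ZMod p] M) - 1) ^ 2 = 0 := LinearMap.ext fun m => by
      have e4 : (y.1 : M →ₗ[ZMod p] M) m - m ∈ W :=
        (Submodule.Quotient.eq W).1 (LinearMap.congr_fun (congrArg Units.val e2) (W.mkQ m))
      rw [sq]
      exact sub_eq_zero.2 (congrArg Subtype.val (LinearMap.congr_fun (congrArg Units.val e1) ⟨_, e4⟩))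
    have e5 := sub_one_pow_eq (p := p) (y.1 : M →ₗ[ZMod p] M) 1
    rw [pow_one, pow_eq_zero_of_le (by omega) e3, eq_comm, sub_eq_zero] at e5
    exact Subtype.ext (Units.ext (by simpa using e5))

theorem core {p r : ℕ} [Fact p.Prime] [Fact r.Prime] (hp : 3 < p) (hrp : r ≠ p) {M : Type u} [AddCommGroup M]
    [Module (ZMod p) M] [Finite M] {G R : Subgroup (M →ₗ[ZMod p] M)ˣ} {a : (M →ₗ[ZMod p] M)ˣ}
    (h : Hyp p r G R a) (hq : ((a : M →ₗ[ZMod p] M) - 1) * ((a : M →ₗ[ZMod p] M) - 1) = 0) : InOp p G a :=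
  core_aux hp hrp _ M G R a rfl h hq

end Cfsg.Agent.FZJ
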