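import Cfsg.Agent.FZJ.Defs

/-! Equivariant ZJ: the grading defined by an `SL₂` pair, ring level. -/

set_option autoImplicit false
set_option linter.unusedSimpArgs false
set_option linter.unnecessarySeqFocus false

namespace Cfsg.Agent.FZJ
open Cfsg.Agent.H90

/-- prime field of characteristic at least five -/
structure PF (k : Type*) [Field k] : Prop where
  nat : ∀ c : k, ∃ n : ℕ, (n : k) = c
  two : (2 : k) ≠ 0
  three : (3 : k) ≠ 0
  card : Nat.card k ≠ 3

variable {k : Type*} [Field k] {A : Type*} [Ring A] [Algebra k A] {G : Subgroup Aˣ}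
variable {e f s s' s'' c c' x y y' u g w z z' : A}

structure Id2 (e f : A) : Prop where
  ee : e * e = e
  ff : f * f = f
  ef : e * f = 0
  fe : f * e = 0

/-- degree one -/
structure D1 (e f s : A) : Prop where
  l : f * s = 0
  r : s * e = 0
  m : e * (s * f) = 0
  s : e * s + s * f = s

/-- degree two -/
structure D2 (e f c : A) : Prop where
  l : e * c = c
  r : c * f = c

theorem Id2.symm (h : Id2 e f) : Id2 f e := ⟨h.ff, h.ee, h.fe, h.ef⟩

theorem id2_of_mu (h : MU x y) : Id2 (x * y) (y * x) :=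
  ⟨by rw [← mul_assoc, h.efe], by rw [← mul_assoc, h.fef], by simp [mul_assoc, z3 h.ff], by simp [mul_assoc, z3 h.ee]⟩

theorem d2_of_mu (h : MU x y) : D2 (x * y) (y * x) x := ⟨h.efe, by rw [← mul_assoc, h.efe]⟩

theorem D1.add (h : D1 e f s) (h' : D1 e f s') : D1 e f (s + s') :=
  ⟨by simp [mul_add, h.l, h'.l], by simp [add_mul, h.r, h'.r], by simp [mul_add, add_mul, h.m, h'.m],
    by linear_combination (norm := noncomm_ring) h.s + h'.s⟩

theorem D1.smul (h : D1 e f s) (t : k) : D1 e f (t • s) :=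
  ⟨by simp [h.l], by simp [h.r], by simp [h.m], by rw [mul_smul_comm, smul_mul_assoc, ← smul_add, h.s]⟩

theorem D1.neg (h : D1 e f s) : D1 e f (-s) :=
  ⟨by simp [h.l], by simp [h.r], by simp [h.m], by linear_combination (norm := noncomm_ring) -h.s⟩

theorem D1.sub (h : D1 e f s) (h' : D1 e f s') : D1 e f (s - s') := by
  rw [sub_eq_add_neg]; exact h.add h'.neg

theorem D2.add (h : D2 e f c) (h' : D2 e f c') : D2 e f (c + c') :=
  ⟨by simp [mul_add, h.l, h'.l], by simp [add_mul, h.r, h'.r]⟩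

theorem D2.sub (h : D2 e f c) (h' : D2 e f c') : D2 e f (c - c') :=
  ⟨by simp [mul_sub, h.l, h'.l], by simp [sub_mul, h.r, h'.r]⟩

theorem D2.smul (h : D2 e f c) (t : k) : D2 e f (t • c) := ⟨by simp [h.l], by simp [h.r]⟩

theorem D2.zero : D2 e f 0 := ⟨by simp, by simp⟩

theorem D2.fl (i : Id2 e f) (h : D2 e f c) : f * c = 0 := by rw [← h.l, ← mul_assoc, i.fe, zero_mul]
theorem D2.er (i : Id2 e f) (h : D2 e f c) : c * e = 0 := by rw [← h.r, mul_assoc, i.fe, mul_zero]
theorem D1.d2 (h : D1 e f s) (h' : D2 e f c) : s * c = 0 := by rw [← h'.l, ← mul_assoc, h.r, zero_mul]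
theorem D2.d1 (h' : D2 e f c) (h : D1 e f s) : c * s = 0 := by rw [← h'.r, mul_assoc, h.l, mul_zero]
theorem D2.d2 (i : Id2 e f) (h : D2 e f c) (h' : D2 e f c') : c * c' = 0 := by
  rw [← h'.l, ← mul_assoc, h.er i, zero_mul]

theorem D1.mul (h : D1 e f s) (h' : D1 e f s') : D2 e f (s * s') :=
  ⟨by linear_combination (norm := noncomm_ring) h.s * s' - s * h'.l,
    by linear_combination (norm := noncomm_ring) s * h'.s - h.r * s'⟩

theorem D1.cube (h : D1 e f s) (h' : D1 e f s') (h'' : D1 e f s'') : s * (s' * s'') = 0 := h.d2 (h'.mul h'')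

theorem D1.eq_zero (i : Id2 e f) (h : D1 e f s) (h' : D2 e f s) : s = 0 := by
  rw [← h.m, h'.r, h'.l]

theorem D1.conj (h : D1 e f s) {v : A} (he : g * e = e * g) (hf : g * f = f * g) (he' : v * e = e * v)
    (hf' : v * f = f * v) : D1 e f (g * s * v) := by
  refine ⟨?_, ?_, ?_, ?_⟩
  · rw [← mul_assoc, ← mul_assoc, ← hf, mul_assoc g, h.l]; simp
  · rw [mul_assoc, he', ← mul_assoc, mul_assoc g, h.r]; simp
  · linear_combination (norm := noncomm_ring) g * h.m * v - he * s * f * v + e * g * s * hf'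
  · linear_combination (norm := noncomm_ring) g * h.s * v - he * s * v + g * s * hf'

theorem D2.conj (h : D2 e f c) {v : A} (he : g * e = e * g) (hf' : v * f = f * v) : D2 e f (g * c * v) :=
  ⟨by linear_combination (norm := noncomm_ring) g * h.l * v - he * c * v,
    by linear_combination (norm := noncomm_ring) g * h.r * v + g * c * hf'⟩

/-- the two graded parts of a strictly upper triangular element -/
theorem uu_split (mu : MU x y) (h : UU x y u) :
    D1 (x * y) (y * x) (u - x * y * u * (y * x)) ∧ D2 (x * y) (y * x) (x * y * u * (y * x)) := by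
  have i := id2_of_mu mu
  have h1 : y * x * u = 0 := by rw [mul_assoc, h.l, mul_zero]
  have h2 : u * (x * y) = 0 := by rw [← mul_assoc, h.r, zero_mul]
  have h3 := h.m
  generalize x * y = e at *
  generalize y * x = f at *
  refine ⟨⟨?_, ?_, ?_, ?_⟩, ?_, ?_⟩
  · simp only [mul_sub, mul_assoc, h1, z3 i.fe, sub_zero]
  · simp only [sub_mul, mul_assoc, h2, i.fe, mul_zero, sub_zero]
  · simp only [mul_sub, sub_mul, mul_assoc, i.ff, e3 i.ee, sub_self]
  · linear_combination (norm := noncomm_ring) -h3 - i.ee * u * f - e * u * i.ff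
  · simp only [mul_assoc, e3 i.ee]
  · simp only [mul_assoc, i.ff]

theorem uu_of_d (mu : MU x y) (h : D1 (x * y) (y * x) s) (h' : D2 (x * y) (y * x) c) : UU x y (s + c) := by
  have i := id2_of_mu mu
  have d := d2_of_mu mu
  refine ⟨by rw [mul_add, d.d1 h, d.d2 i h', add_zero], by rw [add_mul, h.d2 d, h'.d2 i d, add_zero], ?_⟩
  linear_combination (norm := noncomm_ring) -h.s + h.m - h'.l * (1 - y * x)

variable (k) in
/-- exponential of an element of cube zero -/
def Ex (s : A) : A := 1 + s + (2 : k)⁻¹ • (s * s)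

theorem ex_mul (h2 : (2 : k) ≠ 0) (h : s * (s * s) = 0) (a b : k) :
    Ex k (a • s) * Ex k (b • s) = Ex k ((a + b) • s) := by
  simp only [Ex, mul_add, add_mul, mul_one, one_mul, smul_mul_assoc, mul_smul_comm, mul_assoc, h, mul_zero,
    smul_zero, add_smul, smul_add]
  match_scalars <;> field_simp <;> ring

theorem ex_smul (hk : PF k) (h : s * (s * s) = 0) {a : k} (ha : a ≠ 0) (hs : InG G (Ex k (a • s))) (b : k) :
    InG G (Ex k (b • s)) := by
  obtain ⟨n, hn⟩ := hk.nat (b / a)
  have : ∀ n : ℕ, InG G (Ex k (((n : k) * a) • s)) := by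
    intro n
    induction n with
    | zero => simpa [Ex] using InG.one
    | succ n ih =>
      have := ih.mul hs
      rwa [ex_mul hk.two h, (by push_cast; ring : (n : k) * a + a = ((n + 1 : ℕ) : k) * a)] at this
  have h1 := this n
  rwa [hn, div_mul_cancel₀ _ ha] at h1

theorem ex_of_sq (h : s * s = 0) : Ex k s = 1 + s := by simp [Ex, h]

theorem qe_of_inG (hk : PF k) (h : s * s = 0) {a : k} (ha : a ≠ 0) (hs : InG G (1 + a • s)) : QE k G s := by
  refine ⟨h, fun b => ?_⟩
  have e1 : ∀ b : k, Ex k (b • s) = 1 + b • s := fun b => ex_of_sq (by simp [h])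
  rw [← e1] at hs ⊢
  exact ex_smul hk (by rw [h, mul_zero]) ha hs b

theorem qe_of_inG' (hk : PF k) (h : s * s = 0) (hs : InG G (1 + s)) : QE k G s :=
  qe_of_inG hk h one_ne_zero (by simpa using hs)

/-- the torus element -/
def tor (e f : A) (t : k) : A := 1 - e - f + t • e + t⁻¹ • f

theorem tor_mul (i : Id2 e f) (t t' : k) : tor e f t * tor e f t' = tor e f (t * t') := by
  simp only [tor, mul_add, add_mul, mul_sub, sub_mul, mul_one, one_mul, smul_mul_assoc, mul_smul_comm, i.ee, i.ff,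
    i.ef, i.fe, mul_inv]
  module

theorem tor_one : tor e f (1 : k) = 1 := by simp only [tor, inv_one, one_smul]; abel

theorem tor_inv (i : Id2 e f) {t : k} (ht : t ≠ 0) : tor e f t * tor e f t⁻¹ = 1 := by
  rw [tor_mul i, mul_inv_cancel₀ ht, tor_one]

theorem tor_d1 (h : D1 e f s) {t : k} (ht : t ≠ 0) : tor e f t * s = t • (s * tor e f t) := by
  have h1 : s * f = s - e * s := by linear_combination (norm := noncomm_ring) h.s
  simp only [tor, mul_add, add_mul, mul_sub, sub_mul, mul_one, one_mul, smul_mul_assoc, mul_smul_comm, h.l, h.r, h1]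
  match_scalars <;> field_simp <;> ring

theorem tor_d2 (i : Id2 e f) (h : D2 e f c) (t : k) : tor e f t * c = t • c ∧ c * tor e f t = t⁻¹ • c := by
  simp [tor, mul_add, add_mul, mul_sub, sub_mul, h.l, h.r, h.fl i, h.er i]

/-- the Weyl element -/
def wey (x y : A) (t : k) : A := 1 - x * y - y * x + t • x - t⁻¹ • y

theorem wey_mem (mu : MU x y) (hx : QE k G x) (hy : QE k G y) {t : k} (ht : t ≠ 0) : InG G (wey x y t) := by
  convert ((hx.mem t).mul (hy.mem (-t⁻¹))).mul (hx.mem t) using 1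
  simp only [wey, mul_add, add_mul, mul_one, one_mul, smul_mul_assoc, mul_smul_comm, mu.ee, mu.efe]
  match_scalars <;> field_simp <;> ring

theorem wey_mul (mu : MU x y) (t : k) : wey x y t * wey x y (-1 : k) = tor (x * y) (y * x) t := by
  simp only [wey, tor, mul_add, add_mul, mul_sub, sub_mul, mul_one, one_mul, smul_mul_assoc, mul_smul_comm, mul_assoc,
    mu.ee, mu.ff, z3 mu.ee, z3 mu.ff, e4 mu.efe, e4 mu.fef, e4' mu.efe, e4' mu.fef, mul_zero, inv_neg, inv_one]
  module

theorem wey_swap (mu : MU x y) (t : k) :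
    wey x y t * (x * y) = y * x * wey x y t ∧ wey x y t * (y * x) = x * y * wey x y t := by
  constructor <;>
  simp only [wey, mul_add, add_mul, mul_sub, sub_mul, mul_one, one_mul, smul_mul_assoc, mul_smul_comm, mul_assoc,
    mu.ee, mu.ff, z3 mu.ee, z3 mu.ff, e4 mu.efe, e4 mu.fef, e4' mu.efe, e4' mu.fef, mul_zero] <;> module

theorem tor_mem (mu : MU x y) (hx : QE k G x) (hy : QE k G y) {t : k} (ht : t ≠ 0) :
    InG G (tor (x * y) (y * x) t) := by
  rw [← wey_mul mu]
  exact (wey_mem mu hx hy ht).mul (wey_mem mu hx hy (by simp))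

theorem up_inv (i : Id2 e f) (h : D1 e f s) (h' : D2 e f c) : (1 + s + c) * (1 - s + s * s - c) = 1 := by
  simp only [mul_add, add_mul, mul_sub, mul_one, one_mul, h.cube h h, h.d2 h', h'.d1 h, z3 (h'.d1 h), h'.d2 i h']
  abel

theorem up_inv' (i : Id2 e f) (h : D1 e f s) (h' : D2 e f c) : (1 - s + s * s - c) * (1 + s + c) = 1 := by
  simp only [mul_add, add_mul, sub_mul, mul_one, one_mul, mul_assoc, h.cube h h, h.d2 h', h'.d1 h, h'.d2 i h',
    mul_zero]
  abel

/-- two conjugate involutions give the exponential -/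
theorem ex_mem (hk : PF k) (i : Id2 e f) (h : D1 e f s) (h' : D2 e f c) (hz : InG G (tor e f (-1 : k)))
    (hz' : InG G z') (hc : z' * (1 + s + c) = (1 + s + c) * tor e f (-1 : k)) (b : k) : InG G (Ex k (b • s)) := by
  refine ex_smul hk (h.cube h h) hk.two ?_ b
  convert hz'.mul hz using 1
  have z1 : tor e f (-1 : k) * tor e f (-1 : k) = 1 := by rw [tor_mul i]; simp [tor_one]
  have z2 := tor_d1 h (t := (-1 : k)) (by simp)
  have z3' := tor_d2 i h' (-1 : k)
  have z4' := tor_d2 i (h.mul h) (-1 : k)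
  rw [inv_neg, inv_one] at z3' z4'
  generalize tor e f (-1 : k) = z at *
  have e1 : z * (1 - s + s * s - c) = (1 + s + s * s - c) * z := by
    rw [mul_sub, mul_add, mul_sub, sub_mul, add_mul, add_mul, z2, z3'.1, z3'.2, z4'.1, z4'.2]; simp
  rw [← mul_one z', ← up_inv i h h', ← mul_assoc, hc, mul_assoc _ z, e1, mul_assoc, mul_assoc, z1]
  simp only [Ex, mul_add, add_mul, mul_sub, mul_one, one_mul, h.cube h h, h.d2 h', h'.d1 h, z3 (h'.d1 h), h'.d2 i h',
    smul_mul_assoc, mul_smul_comm]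
  have := hk.two
  match_scalars <;> field_simp <;> ring

theorem ex_neg_mul (h2 : (2 : k) ≠ 0) (h : D1 e f s) (h' : D2 e f c) :
    Ex k ((-1 : k) • s) * (1 + s + c) = 1 + (c - (2 : k)⁻¹ • (s * s)) := by
  simp only [Ex, mul_add, add_mul, mul_one, one_mul, h.cube h h, h.d2 h', smul_mul_assoc, mul_smul_comm, mul_assoc,
    mul_zero]
  match_scalars <;> field_simp <;> ring

theorem ex_mul_d2 (h : D1 e f s) (h' : D2 e f c) :
    Ex k s * (1 + (c - (2 : k)⁻¹ • (s * s))) = 1 + s + c := by
  simp only [Ex, mul_add, add_mul, mul_sub, mul_one, one_mul, h.cube h h, h.d2 h', smul_mul_assoc, mul_smul_comm,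
    mul_assoc, mul_zero]
  module

theorem up_split (hk : PF k) (i : Id2 e f) (h : D1 e f s) (h' : D2 e f c) (hz : InG G (tor e f (-1 : k)))
    (hg : InG G (1 + s + c)) : (∀ b : k, InG G (Ex k (b • s))) ∧ QE k G (c - (2 : k)⁻¹ • (s * s)) := by
  have h1 := ex_mem hk i h h' hz ((hg.mul hz).mul (hg.inv (up_inv i h h'))) (by
    rw [mul_assoc, up_inv' i h h', mul_one])
  have h2 := h'.sub ((h.mul h).smul (2 : k)⁻¹)
  exact ⟨h1, qe_of_inG' hk (h2.d2 i h2) (ex_neg_mul hk.two h h' ▸ (h1 _).mul hg)⟩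

/-- `U(x)` is transitive on the partners of `x` -/
theorem partner_trans (hk : PF k) (mu : MU x y) (mu' : MU x y') (hx : QE k G x) (hy : QE k G y) (hy' : QE k G y') :
    ∃ u, UU x y u ∧ InG G (1 + u) ∧ (1 + u) * y = y' * (1 + u) := by
  have i := id2_of_mu mu
  set u := (y' - y) * x - x * (y' - y) + x * y' * y * x with hu
  have uu : UU x y u := by
    refine ⟨?_, ?_, ?_⟩ <;>
    simp only [hu, mul_add, add_mul, mul_sub, sub_mul, mul_one, one_mul, mul_assoc, mu.ee, z3 mu.ee, z3 mu.ff,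
      e4 mu.efe, e4' mu.efe, e4 mu'.efe, e4' mu'.efe, mul_zero, zero_mul] <;> abel
  have h1 : (1 + u) * y = y' * (1 + u) := by
    simp only [hu, mul_add, add_mul, mul_sub, sub_mul, mul_one, one_mul, mul_assoc, mu.ff, z3 mu.ff, z3 mu'.ff,
      e4 mu.fef, e4' mu.fef, e4 mu'.fef, e4' mu'.fef, mul_zero]
    abel
  have h2 : (1 + u) * x = x * (1 + u) := by rw [add_mul, mul_add, uu.l, uu.r, one_mul, mul_one]
  have h3 : ∀ t : k, tor (x * y') (y' * x) t * (1 + u) = (1 + u) * tor (x * y) (y * x) t := by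
    intro t
    have a1 : x * y' * (1 + u) = (1 + u) * (x * y) := by rw [mul_assoc, ← h1, ← mul_assoc, ← h2, mul_assoc]
    have a2 : y' * x * (1 + u) = (1 + u) * (y * x) := by rw [mul_assoc, ← h2, ← mul_assoc, ← h1, mul_assoc]
    generalize 1 + u = g at *
    simp only [tor, add_mul, mul_add, sub_mul, mul_sub, smul_mul_assoc, mul_smul_comm, a1, a2, one_mul, mul_one]
  refine ⟨u, uu, ?_, h1⟩
  obtain ⟨d1, d2⟩ := uu_split mu uu
  have e1 : 1 + u = 1 + (u - x * y * u * (y * x)) + x * y * u * (y * x) := by abel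
  rw [e1] at h3 ⊢
  generalize u - x * y * u * (y * x) = s at *
  generalize x * y * u * (y * x) = c at *
  have h4 := ex_mem hk i d1 d2 (tor_mem mu hx hy (by simp)) (tor_mem mu' hx hy' (by simp)) (h3 _)
  have d3 := d2.sub ((d1.mul d1).smul (2 : k)⁻¹)
  have e2 := ex_mul_d2 (k := k) d1 d2
  generalize c - (2 : k)⁻¹ • (s * s) = c' at *
  have h5 : QE k G c' := by
    refine qe_of_inG hk (d3.d2 i d3) (a := -3) (neg_ne_zero.2 hk.three) ?_
    have e3' : Ex k ((-1 : k) • s) * Ex k s = 1 := by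
      have := ex_mul hk.two (d1.cube d1 d1) (-1) 1
      rw [one_smul] at this
      rw [this]; simp [Ex]
    have h6 := (((h4 (-1)).mul (tor_mem mu' hx hy' hk.two)).mul (h4 1)).mul
      (tor_mem mu hx hy (inv_ne_zero hk.two))
    rw [one_smul] at h6
    convert h6 using 1
    have e4' : (1 + c') * (1 - c') = 1 := by simp [mul_sub, add_mul, d3.d2 i d3]
    have h7 := h3 2
    rw [← e2] at h7
    have t1 := tor_inv i hk.two
    have t2 := tor_d2 i d3 (2 : k)
    have t3 := tor_d2 i d3 (2 : k)⁻¹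
    have t4 : (1 + c') * (tor (x * y) (y * x) (2 : k) * ((1 - c') * tor (x * y) (y * x) (2 : k)⁻¹)) =
        1 + (-3 : k) • c' := by
      rw [sub_mul, t3.2, one_mul, mul_sub, t1, mul_smul_comm, t2.1, inv_inv]
      simp only [mul_sub, add_mul, mul_one, one_mul, mul_smul_comm, d3.d2 i d3]
      module
    rw [← t4]
    linear_combination (norm := noncomm_ring) -e3' * (1 + c') * tor (x * y) (y * x) (2 : k) * (1 - c') *
      tor (x * y) (y * x) (2 : k)⁻¹ - Ex k ((-1 : k) • s) * h7 * (1 - c') * tor (x * y) (y * x) (2 : k)⁻¹ +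
      Ex k ((-1 : k) • s) * tor (x * y') (y' * x) (2 : k) * Ex k s * e4' * tor (x * y) (y * x) (2 : k)⁻¹
  rw [← e2]
  exact (by simpa using h4 1 : InG G (Ex k s)).mul h5.one_add

variable (k) in
/-- the degree one part of the Lie algebra of `U` -/
structure U1 (G : Subgroup Aˣ) (e f s : A) : Prop where
  d : D1 e f s
  mem : InG G (Ex k s)

theorem U1.smul (hk : PF k) (h : U1 k G e f s) (t : k) : U1 k G e f (t • s) :=
  ⟨h.d.smul t, ex_smul hk (h.d.cube h.d h.d) one_ne_zero (by simpa using h.mem) t⟩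

theorem U1.of_smul (hk : PF k) {t : k} (ht : t ≠ 0) (h : U1 k G e f (t • s)) : U1 k G e f s := by
  simpa [smul_smul, ht] using h.smul hk t⁻¹

theorem U1.add_comm (hk : PF k) (i : Id2 e f) (hz : InG G (tor e f (-1 : k))) (h : U1 k G e f s)
    (h' : U1 k G e f s') : U1 k G e f (s + s') ∧ QE k G (s * s' - s' * s) := by
  have d := h.d
  have d' := h'.d
  have h1 := up_split hk i (d.add d') (c := (2 : k)⁻¹ • (s * s) + (2 : k)⁻¹ • (s' * s') + s * s')
    ((((d.mul d).smul _).add ((d'.mul d').smul _)).add (d.mul d')) hz (by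
      convert h.mem.mul h'.mem using 1
      simp only [Ex, mul_add, add_mul, mul_one, one_mul, smul_mul_assoc, mul_smul_comm, mul_assoc, d.cube d d',
        d.cube d' d', mul_zero]
      module)
  refine ⟨⟨d.add d', by simpa using h1.1 1⟩, QE.of_smul (c := (2 : k)⁻¹) ?_ (inv_ne_zero hk.two)⟩
  convert h1.2 using 1
  simp only [mul_add, add_mul]
  have := hk.two
  match_scalars <;> field_simp <;> ring

theorem U1.sub (hk : PF k) (i : Id2 e f) (hz : InG G (tor e f (-1 : k))) (h : U1 k G e f s)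
    (h' : U1 k G e f s') : U1 k G e f (s - s') := by
  simpa [sub_eq_add_neg] using (h.add_comm hk i hz (h'.smul hk (-1))).1

theorem comm_of_inv {v : A} (h1 : g * v = 1) (h2 : v * g = 1) (he : g * e = e * g) : v * e = e * v := by
  rw [← mul_one (v * e), ← h1, ← mul_assoc, mul_assoc v, ← he, ← mul_assoc, h2, one_mul]

theorem inG_comm {v : A} (hg : InG G g) (h : g * v = 1) : v * g = 1 := by
  obtain ⟨g, -, rfl⟩ := hg
  rw [← Units.inv_eq_of_mul_eq_one_right h, Units.inv_mul]

theorem U1.conj (h : U1 k G e f s) {v : A} (hg : InG G g) (hv : g * v = 1) (he : g * e = e * g)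
    (hf : g * f = f * g) : U1 k G e f (g * s * v) := by
  have hv' := inG_comm hg hv
  refine ⟨h.d.conj he hf (comm_of_inv hv hv' he) (comm_of_inv hv hv' hf), ?_⟩
  convert (hg.mul h.mem).mul (hg.inv hv) using 1
  simp only [Ex, mul_add, add_mul, mul_one, hv, smul_mul_assoc, mul_smul_comm, mul_assoc, e3 hv', one_mul]

/-- bracket with a quadratic element of degree zero -/
theorem U1.bracket (hk : PF k) (i : Id2 e f) (hz : InG G (tor e f (-1 : k))) (h : U1 k G e f s) (hw : QE k G w)
    (he : w * e = e * w) (hf : w * f = f * w) : U1 k G e f (w * s - s * w) := by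
  have h1 := h.conj hw.one_add (un w hw.sq).mul_inv (by simp [add_mul, mul_add, he]) (by simp [add_mul, mul_add, hf])
  have h2 := h.conj hw.one_sub (un w hw.sq).inv_mul (by simp [sub_mul, mul_sub, he]) (by simp [sub_mul, mul_sub, hf])
  refine U1.of_smul hk hk.two ?_
  convert h1.sub hk i hz h2 using 1
  simp only [un_val, un_inv, mul_add, add_mul, mul_sub, sub_mul, mul_one, one_mul]
  module

end Cfsg.Agent.FZJ
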