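import Cfsg.Agent.FZJ.Fix

/-! Equivariant ZJ: the case `O_p(G) = 1`. -/

set_option autoImplicit false
set_option linter.unusedSimpArgs false

namespace Cfsg.Agent.FZJ
open Cfsg Cfsg.Agent.H90 LinearMap

universe u

theorem norm_of_forall {Γ : Type*} [Group Γ] {R Y : Subgroup Γ} (h : ∀ σ ∈ R, ∀ g ∈ Y, σ * g * σ⁻¹ ∈ Y) :
    R ≤ Subgroup.normalizer (Y : Set Γ) := fun σ hσ => Subgroup.mem_normalizer_iff.2 fun g =>
  ⟨h σ hσ g, fun hg => by simpa [mul_assoc] using h _ (inv_mem hσ) _ hg⟩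

section
variable {p r : ℕ} [Fact p.Prime] [Fact r.Prime] {M : Type*} [AddCommGroup M] [Module (ZMod p) M] [Finite M]
variable {G R A B C : Subgroup (M →ₗ[ZMod p] M)ˣ} {x y : M →ₗ[ZMod p] M} {a g : (M →ₗ[ZMod p] M)ˣ}

/-- the stabilizer of the component of `A` -/
def CS (G A : Subgroup (M →ₗ[ZMod p] M)ˣ) : Subgroup (M →ₗ[ZMod p] M)ˣ where
  carrier := {g | G ^~ g = G ∧ Conn (quadraticRootSubgroups G) A (A ^~ g)}
  one_mem' := ⟨rc_one _, by rw [rc_one]⟩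
  mul_mem' := fun {g h} hg hh => ⟨by rw [← rc_rc, hg.1, hh.1], by
    rw [← rc_rc]; exact hh.2.trans (conn_nc hh.1 hg.2)⟩
  inv_mem' := fun {g} hg => ⟨rc_inv_of_eq hg.1, by
    simpa only [rc_rc_inv] using (conn_nc (rc_inv_of_eq hg.1) hg.2).symm'⟩

theorem CS_comp (hg : g ∈ CS G A) (h : C ∈ componentOf (FAdj (quadraticRootSubgroups G)) (quadraticRootSubgroups G) A) :
    C ^~ g ∈ componentOf (FAdj (quadraticRootSubgroups G)) (quadraticRootSubgroups G) A :=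
  ⟨Sigma_nc hg.1 h.1, hg.2.trans (conn_nc hg.1 h.2)⟩

/-- `A` is normalized by the stabilizer in `R` of its component -/
def Good (G R A : Subgroup (M →ₗ[ZMod p] M)ˣ) : Prop :=
  ∀ ρ ∈ R, Conn (quadraticRootSubgroups G) A (A ^~ ρ) → A ^~ ρ = A

theorem Hyp.nc (h : Hyp p r G R a) {ρ : (M →ₗ[ZMod p] M)ˣ} (hρ : ρ ∈ R) : G ^~ ρ = G :=
  rc_eq_self_iff_mem_normalizer.2 (h.norm hρ)

theorem Good.rc (h : Hyp p r G R a) (hA : Good G R A) {ρ : (M →ₗ[ZMod p] M)ˣ} (hρ : ρ ∈ R) : Good G R (A ^~ ρ) := by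
  intro σ hσ h1
  have h2 := conn_nc (h.nc (inv_mem hρ)) h1
  rw [rc_rc_inv, rc_rc, rc_rc] at h2
  have h3 := hA _ (mul_mem hρ (mul_mem hσ (inv_mem hρ))) h2
  rw [← rc_rc, ← rc_rc] at h3
  simpa using rc_eq_iff.1 h3

theorem exists_good (hp : 3 < p) (h : Hyp p r G R a) (hG : NoUnip (ZMod p) G) (hA : A ∈ quadraticRootSubgroups G) :
    ∃ B, Conn (quadraticRootSubgroups G) A B ∧ Good G R B := by
  have hS := Sigma_RS (pf hp).two (pf hp).card hG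
  have h1 := orbit_dvd (fun (g : (M →ₗ[ZMod p] M)ˣ) (C : Subgroup (M →ₗ[ZMod p] M)ˣ) => C ^~ g⁻¹)
    (by simp [rc_one]) (by simp [rc_rc]) (⨆ B ∈ quadraticRootSubgroups G, B) A
    (S := componentOf (FAdj (quadraticRootSubgroups G)) (quadraticRootSubgroups G) A) fun B =>
      ⟨fun hB => by
        obtain ⟨g, hg, e⟩ := comp_conj hB
        exact ⟨g⁻¹, inv_mem ((biSup_mono fun _ hB => hB.1 : _ ≤ ⨆ B ∈ quadraticRootSubgroups G, B) hg),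
          by rw [inv_inv, e]⟩,
      by rintro ⟨g, hg, rfl⟩; exact hS.comp_rc ⟨hA, Relation.ReflTransGen.refl⟩ (inv_mem hg)⟩
  obtain ⟨B, hB, hf⟩ := fixed_of_not_dvd (fun (g : (M →ₗ[ZMod p] M)ˣ) (C : Subgroup (M →ₗ[ZMod p] M)ˣ) => C ^~ g⁻¹)
    (by simp [rc_one]) (by simp [rc_rc]) (H := R ⊓ CS G A) (h.rp.to_le inf_le_left) (Set.toFinite _)
    (fun g hg C hC => CS_comp (inv_mem hg.2) hC) fun h2 =>
      (Nat.Prime.coprime_iff_not_dvd Fact.out).1 h.cop.symm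
        ((h2.trans h1).trans (Subgroup.card_dvd_of_le (iSup₂_le fun _ => Sigma_le)))
  refine ⟨B, hB.2, fun ρ hρ h2 => ?_⟩
  simpa using hf ρ⁻¹ (inv_mem ⟨hρ, h.nc hρ, (hB.2.trans h2).trans (conn_nc (h.nc hρ) hB.2).symm'⟩)

theorem exists_good_opp (hp : 3 < p) (hrp : r ≠ p) (h : Hyp p r G R a) (hG : NoUnip (ZMod p) G) (hx : QD G x)
    (hA : Good G R (EE G x hx.sq)) : ∃ (y : M →ₗ[ZMod p] M) (hy : QD G y), MU x y ∧ Good G R (EE G y hy.sq) := by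
  have hk := pf hp
  obtain ⟨y, hy, mu⟩ := hx.exists_opp hk.two hk.card hG
  have hU : ∀ g ∈ UG G mu, EE G x hx.sq ^~ g = EE G x hx.sq := fun g hg => by
    rw [EE_rc hg.1]
    exact EE_congr (by rw [mul_assoc, ← UG_comm hg, Units.inv_mul_cancel_left]; exact Sim.refl x)
  have h1 := orbit_dvd (fun (g : (M →ₗ[ZMod p] M)ˣ) (C : Subgroup (M →ₗ[ZMod p] M)ˣ) => C ^~ g⁻¹)
    (by simp [rc_one]) (by simp [rc_rc]) (UG G mu) (EE G y hy.sq)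
    (S := {B | B ∈ quadraticRootSubgroups G ∧ IsRankOnePair (EE G x hx.sq) B}) fun B =>
      ⟨fun hB => opp_conj hk hx hy mu hB.1 hB.2, by
        rintro ⟨g, hg, rfl⟩
        exact ⟨Sigma_rc hy.EE_mem (inv_mem hg.1), hU _ (inv_mem hg) ▸ r1_rc (mu_r1 hk hx hy mu) g⁻¹⟩⟩
  obtain ⟨B, hB, hf⟩ := fixed_of_not_dvd (fun (g : (M →ₗ[ZMod p] M)ˣ) (C : Subgroup (M →ₗ[ZMod p] M)ˣ) => C ^~ g⁻¹)
    (by simp [rc_one]) (by simp [rc_rc]) (H := R ⊓ CS G (EE G x hx.sq)) (h.rp.to_le inf_le_left)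
    (S := {B | B ∈ quadraticRootSubgroups G ∧ IsRankOnePair (EE G x hx.sq) B}) (Set.toFinite _)
    (fun g hg C hC => ⟨Sigma_nc ((CS G _).inv_mem hg.2).1 hC.1,
      hA _ (inv_mem hg.1) ((CS G _).inv_mem hg.2).2 ▸ r1_rc hC.2 g⁻¹⟩)
    (not_dvd_of_dvd (isPGroup_of_unip (UG_unip (ZMod p) mu)) Fact.out hrp h1)
  obtain ⟨b, hb, rfl⟩ := mem_Sigma.1 hB.1
  obtain ⟨y', i, mu'⟩ := hx.exists_mu hk.two hk.card hb (hx.not_nil_of_r1 hk.two hb hB.2)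
  refine ⟨y', i.qd hb (mu'.ne hx.ne), mu', ?_⟩
  rw [EE_congr (hb := hb.sq) (i.sim hb (mu'.ne hx.ne))]
  intro ρ hρ h2
  have h3 := conn_of_r1 hx.EE_mem hB.1 hB.2
  simpa using hf ρ⁻¹ (inv_mem ⟨hρ, h.nc hρ, (h3.trans h2).trans (conn_nc (h.nc hρ) h3).symm'⟩)

theorem cm_UG (hp : 3 < p) (hG : NoUnip (ZMod p) G) (hx : QD G x) (hy : QD G y) (mu : MU x y)
    (hC : C ∈ quadraticRootSubgroups G) (h : ¬ Conn (quadraticRootSubgroups G) (EE G x hx.sq) C) : Cm (UG G mu) C :=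
  cm_iff_le.2 (UG_le_of (pf hp) hx hy mu fun _ hC' => cm_iff_le.1
    ((Sigma_RS (pf hp).two (pf hp).card hG).cm_of_not_conn (hC'.mem hx.EE_mem) hC fun h2 => h (hC'.trans h2)))

theorem UG_rc_le (hx : QD G x) (mu : MU x y) (hg : G ^~ g = G) (h : EE G x hx.sq ^~ g = EE G x hx.sq) :
    UG G mu ^~ g ≤ UG G mu := by
  intro u hu
  obtain ⟨v, hv, rfl⟩ := exists_of_mem_rc hu
  rw [EE_nc hg] at h
  have hx' := qd_nc hg hx
  refine UG_congr hx' (mu_conj mu g.mul_inv) mu ((sim_of_EE_eq hx' hx h).symm.inE hx.qe) hx.ne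
    ⟨hg ▸ conj_mem_rc hv.1 g, ?_⟩
  convert uu_conj hv.2 g.mul_inv g.inv_mul using 1
  simp [mul_sub, sub_mul]

theorem good_norm (hp : 3 < p) (h : Hyp p r G R a)
    (hq : ((a : M →ₗ[ZMod p] M) - 1) * ((a : M →ₗ[ZMod p] M) - 1) = 0) (hG : NoUnip (ZMod p) G)
    (hA : A ∈ quadraticRootSubgroups G) (hg : Good G R A) : A ^~ a = A := by
  have hk := pf hp
  obtain ⟨x, hx, rfl⟩ := mem_Sigma.1 hA
  obtain ⟨y, hy, mu⟩ := hx.exists_opp hk.two hk.card hG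
  have h1 : ∀ τ ∈ R, UG G mu ^~ τ = UG G mu ∨ Cm (UG G mu) (UG G mu ^~ τ) := by
    intro τ hτ
    by_cases h2 : Conn (quadraticRootSubgroups G) (EE G x hx.sq) (EE G x hx.sq ^~ τ)
    · refine Or.inl (le_antisymm (UG_rc_le hx mu (h.nc hτ) (hg τ hτ h2)) ?_)
      simpa only [rc_inv_rc] using rc_mono (UG_rc_le hx mu (h.nc (inv_mem hτ)) (rc_inv_of_eq (hg τ hτ h2))) τ
    · refine Or.inr (cm_iff_le.2 (UG_le_of hk hx hy mu fun C hC => cm_iff_le.1 ?_))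
      have := (cm_UG hp hG hx hy mu (Sigma_nc (h.nc (inv_mem hτ)) (hC.mem hA)) fun h3 => h2 (hC.trans (by
        simpa only [rc_inv_rc] using (conn_nc (h.nc hτ) h3).symm'))).rc τ
      rw [rc_inv_rc] at this
      exact this.symm
  let W : Set (Subgroup (M →ₗ[ZMod p] M)ˣ) := {V | ∃ ρ ∈ R, V = UG G mu ^~ ρ}
  have h2 : ∀ V ∈ W, ∀ V' ∈ W, ∀ g ∈ V', V ^~ g = V := by
    rintro _ ⟨ρ, hρ, rfl⟩ _ ⟨σ, hσ, rfl⟩ g hg
    rcases h1 _ (mul_mem hσ (inv_mem hρ)) with h3 | h3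
    · rw [← rc_rc, rc_eq_iff, inv_inv] at h3
      exact rc_of_mem (h3 ▸ hg)
    · have := h3.rc ρ
      rw [rc_rc, inv_mul_cancel_right] at this
      exact this.rc_eq hg
  have h3 : ∀ V ∈ W, Unip (ZMod p) V := by
    rintro _ ⟨ρ, -, rfl⟩
    exact unip_of_isPGroup ((isPGroup_of_unip (UG_unip (ZMod p) mu)).map _)
  have h4 : Unip (ZMod p) (⨆ V ∈ W, V) := unip_biSup (G := ⨆ V ∈ W, V) (fun _ => le_biSup')
    (fun V hV V' hV' => (h3 V hV).sup (h3 V' hV') (h2 V hV V' hV')) fun V hV g hg => by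
      have : (⨆ V ∈ W, V) ≤ Subgroup.normalizer (V : Set (M →ₗ[ZMod p] M)ˣ) :=
        iSup₂_le fun V' hV' g hg => rc_eq_self_iff_mem_normalizer.1 (h2 V hV V' hV' g hg)
      rwa [rc_eq_self_iff_mem_normalizer.2 (this hg)]
  have h5 := h.sup _ (iSup₂_le (by rintro _ ⟨ρ, hρ, rfl⟩; exact (rc_mono UG_le ρ).trans (h.nc hρ).le))
    (isPGroup_of_unip h4) fun σ hσ => rc_eq_self_iff_mem_normalizer.1 (rc_biSup_eq (X := R) (by
      rintro _ ⟨ρ, hρ, rfl⟩ g hg; exact ⟨ρ * g, mul_mem hρ hg, rc_rc _ _ _⟩) hσ)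
  have h6 : IsPGroup p ↥(UG G mu ⊔ Subgroup.zpowers a) :=
    h5.to_le (sup_le_sup_right (le_biSup' (S := W) ⟨1, one_mem _, (rc_one _).symm⟩) _)
  have hU : ∀ g ∈ UG G mu, EE G x hx.sq ^~ g = EE G x hx.sq := fun g hg => by
    rw [EE_rc hg.1]
    exact EE_congr (by rw [mul_assoc, ← UG_comm hg, Units.inv_mul_cancel_left]; exact Sim.refl x)
  have h7 : UG G mu ≤ CS G (EE G x hx.sq) := fun g hg => ⟨rc_of_mem hg.1, by rw [hU g hg]⟩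
  have h8 : UG G mu ⊔ Subgroup.zpowers a ≤ CS G (EE G x hx.sq) := sup_le h7 (Subgroup.zpowers_le.2 ⟨rc_of_mem h.mem,
    un_sub_one a hq ▸ conn_quad hk hG (qe_of_inG' hk hq (by simpa using InG.of_mem h.mem)) hA⟩)
  have uniq : ∀ D ∈ componentOf (FAdj (quadraticRootSubgroups G)) (quadraticRootSubgroups G) (EE G x hx.sq),
      (∀ g ∈ UG G mu, D ^~ g⁻¹ = D) → D = EE G x hx.sq := fun D hD h9 =>
    fix_UG hp hG hx hy mu hD.2 fun g hg => by simpa using h9 _ (inv_mem hg)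
  obtain ⟨D, hD, hf⟩ := fixed_of_not_dvd (fun (g : (M →ₗ[ZMod p] M)ˣ) (C : Subgroup (M →ₗ[ZMod p] M)ˣ) => C ^~ g⁻¹)
    (by simp [rc_one]) (by simp [rc_rc]) h6 (Set.toFinite _) (fun g hg C hC => CS_comp (inv_mem (h8 hg)) hC)
    (not_dvd_of_unique (fun (g : (M →ₗ[ZMod p] M)ˣ) (C : Subgroup (M →ₗ[ZMod p] M)ˣ) => C ^~ g⁻¹)
      (by simp [rc_one]) (by simp [rc_rc]) (h6.to_le le_sup_left) (Set.toFinite _)
      (fun g hg C hC => CS_comp (inv_mem (h7 hg)) hC) ⟨hA, Relation.ReflTransGen.refl⟩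
      (fun g hg => hU _ (inv_mem hg)) uniq)
  rw [uniq D hD fun g hg => hf g (Subgroup.mem_sup_left hg)] at hf
  simpa using hf _ (inv_mem (Subgroup.mem_sup_right (Subgroup.mem_zpowers a)))

theorem comm_of_rc (hp : 3 < p) (hx : QD G x) (hq : ((a : M →ₗ[ZMod p] M) - 1) * ((a : M →ₗ[ZMod p] M) - 1) = 0)
    (h : EE G x hx.sq ^~ a = EE G x hx.sq) : ((a : M →ₗ[ZMod p] M) - 1) * x = x * ((a : M →ₗ[ZMod p] M) - 1) := by
  have h1 := mem_EE.1 (mem_rc.1 (h.symm ▸ (InE.self hx.qe).un_mem))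
  have h2 := mem_EE.1 (mem_rc.1 ((rc_inv_of_eq h).symm ▸ (InE.self hx.qe).un_mem))
  have e : ((a⁻¹ : (M →ₗ[ZMod p] M)ˣ) : M →ₗ[ZMod p] M) = 1 - ((a : M →ₗ[ZMod p] M) - 1) :=
    Units.inv_eq_of_mul_eq_one_right (by linear_combination (norm := noncomm_ring) -hq)
  refine cent_of_norm (pf hp).two hx hq ?_ ?_
  · convert h1 using 1
    rw [← e]; simp [mul_add, add_mul]
  · convert h2 using 1
    rw [← e]; simp [mul_add, add_mul]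

/-- the stabilizer of all pairs `{A^ρ, B^ρ}` -/
def PS (G R A B : Subgroup (M →ₗ[ZMod p] M)ˣ) : Subgroup (M →ₗ[ZMod p] M)ˣ where
  carrier := {g | g ∈ G ∧ ∀ ρ ∈ R, (A ^~ ρ ^~ g = A ^~ ρ ∧ B ^~ ρ ^~ g = B ^~ ρ) ∨
    (A ^~ ρ ^~ g = B ^~ ρ ∧ B ^~ ρ ^~ g = A ^~ ρ)}
  one_mem' := ⟨G.one_mem, fun _ _ => Or.inl ⟨rc_one _, rc_one _⟩⟩
  mul_mem' := fun {g h} hg hh => ⟨G.mul_mem hg.1 hh.1, fun ρ hρ => by
    rw [← rc_rc _ g, ← rc_rc _ g]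
    rcases hg.2 ρ hρ with h1 | h1 <;> rw [h1.1, h1.2]
    · exact hh.2 ρ hρ
    · exact (hh.2 ρ hρ).imp And.symm And.symm |>.symm⟩
  inv_mem' := fun {g} hg => ⟨G.inv_mem hg.1, fun ρ hρ => (hg.2 ρ hρ).imp
    (fun h => ⟨rc_inv_of_eq h.1, rc_inv_of_eq h.2⟩) fun h => ⟨(rc_eq_iff.1 h.2).symm, (rc_eq_iff.1 h.1).symm⟩⟩

theorem le_Cent (hp : 3 < p) (hrp : r ≠ p) (h : Hyp p r G R a)
    (hq : ((a : M →ₗ[ZMod p] M) - 1) * ((a : M →ₗ[ZMod p] M) - 1) = 0) (hG : NoUnip (ZMod p) G)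
    (ih : ∀ Y : Subgroup (M →ₗ[ZMod p] M)ˣ, Y < G → Hyp p r Y R a → InOp p Y a) (hC : C ∈ quadraticRootSubgroups G) :
    C ≤ Cent G ((a : M →ₗ[ZMod p] M) - 1) := by
  have hk := pf hp
  obtain ⟨A, hCA, gA⟩ := exists_good hp h hG hC
  obtain ⟨x, hx, rfl⟩ := mem_Sigma.1 (hCA.mem hC)
  obtain ⟨y, hy, mu, gB⟩ := exists_good_opp hp hrp h hG hx gA
  have hν := qe_of_inG' (G := G) hk hq (by simpa using InG.of_mem h.mem)
  have r1 := mu_r1 hk hx hy mu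
  have cAB := conn_of_r1 hx.EE_mem hy.EE_mem r1
  have cy := comm_of_rc hp hy hq (good_norm hp h hq hG hy.EE_mem gB)
  obtain ⟨T, hTY, hT, haT, hn⟩ := ih (PS G R (EE G x hx.sq) (EE G y hy.sq)) (lt_of_le_of_ne (fun _ h => h.1) fun e => by
      have h1 := (InE.self hx.qe).un_mem (ha := hx.sq)
      have h2 := e.ge (EE_le h1)
      have h3 := h2.2 1 (one_mem _)
      simp only [rc_one] at h3
      rcases h3 with h3 | h3
      · exact hx.ne (un_eq_one.1 (r1_norm r1 h1 h3.2))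
      · exact r1.ne ((rc_of_mem h1).symm.trans h3.1))
    (h.mono (fun _ h => h.1) (norm_of_forall fun σ hσ g hg => ⟨mem_rc.1 ((h.nc hσ).symm ▸ hg.1), fun ρ hρ => by
      have h1 := hg.2 _ (mul_mem hρ hσ)
      simp only [← rc_rc] at h1 ⊢
      rcases h1 with h1 | h1 <;> simp only [h1.1, h1.2, rc_rc_inv, and_self, true_or, or_true]⟩)
      ⟨h.mem, fun ρ hρ => Or.inl ⟨good_norm hp h hq hG (Sigma_nc (h.nc hρ) hx.EE_mem) (gA.rc h hρ),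
        good_norm hp h hq hG (Sigma_nc (h.nc hρ) hy.EE_mem) (gB.rc h hρ)⟩⟩)
  let N : Set (Subgroup (M →ₗ[ZMod p] M)ˣ) :=
    {D | D ∈ quadraticRootSubgroups G ∧ ¬ Conn (quadraticRootSubgroups G) (EE G x hx.sq) D}
  have hN : ∀ V : Subgroup (M →ₗ[ZMod p] M)ˣ, (∀ D ∈ N, Cm V D) →
      V ≤ Subgroup.centralizer ((⨆ D ∈ N, D : Subgroup (M →ₗ[ZMod p] M)ˣ) : Set (M →ₗ[ZMod p] M)ˣ) := fun V hV =>
    cm_iff_le.1 (Cm.symm (cm_iff_le.2 (iSup₂_le fun D hD => cm_iff_le.1 (hV D hD).symm)))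
  refine cent_conn hk hx hy mu (tt hp hG hx hy mu hν (comm_of_rc hp hx hq (good_norm hp h hq hG hx.EE_mem gA)) cy
    (K := G ⊓ Subgroup.centralizer ((⨆ D ∈ N, D : Subgroup (M →ₗ[ZMod p] M)ˣ) : Set (M →ₗ[ZMod p] M)ˣ))
    (le_inf UG_le (hN _ fun D hD => cm_UG hp hG hx hy mu hD.1 hD.2))
    (le_inf UG_le (hN _ fun D hD => cm_UG hp hG hy hx mu.symm hD.1 fun h1 => hD.2 (cAB.trans h1)))
    (unip_of_isPGroup hT) hTY (fun g hg => rc_eq_self_iff_mem_normalizer.2 (hn hg)) ((un_sub_one a hq).symm ▸ haT)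
    fun n hn n1 n2 => ⟨hn.1, fun ρ hρ => ?_⟩) cy hCA.symm'
  have cA := conn_nc (h.nc hρ) cAB
  by_cases h1 : Conn (quadraticRootSubgroups G) (EE G x hx.sq) (EE G x hx.sq ^~ ρ)
  · rw [gA ρ hρ h1, gB ρ hρ ((cAB.symm'.trans h1).trans cA)]
    exact Or.inr ⟨swap_EE hx hy mu hn.1 n1 n2, swap_EE hy hx mu.symm hn.1 n2 n1⟩
  · have key : ∀ D ∈ N, D ^~ n = D := fun D hD => rc_of_comm fun d hd => hn.2 d (le_biSup' hD hd)
    exact Or.inl ⟨key _ ⟨Sigma_nc (h.nc hρ) hx.EE_mem, h1⟩,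
      key _ ⟨Sigma_nc (h.nc hρ) hy.EE_mem, fun h2 => h1 (h2.trans cA.symm')⟩⟩

end

/-- the case `O_p(G) = 1` of the induction -/
theorem step {p r : ℕ} [Fact p.Prime] [Fact r.Prime] (hp : 3 < p) (hrp : r ≠ p) {M : Type u} [AddCommGroup M]
    [Module (ZMod p) M] [Finite M] {G R : Subgroup (M →ₗ[ZMod p] M)ˣ} {a : (M →ₗ[ZMod p] M)ˣ}
    (h : Hyp p r G R a) (hq : ((a : M →ₗ[ZMod p] M) - 1) * ((a : M →ₗ[ZMod p] M) - 1) = 0)
    (hG : NoUnip (ZMod p) G)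
    (ih : ∀ Y : Subgroup (M →ₗ[ZMod p] M)ˣ, Y < G → Hyp p r Y R a → InOp p Y a) : a = 1 := by
  have hk := pf hp
  by_contra ha
  obtain ⟨x, hx⟩ := exists_QD (qe_of_inG' (G := G) hk hq (by simpa using InG.of_mem h.mem))
    fun e => ha (Units.ext (sub_eq_zero.1 e))
  obtain ⟨y, hy, mu⟩ := hx.exists_opp hk.two hk.card hG
  set G₀ := ⨆ B ∈ quadraticRootSubgroups G, B with hG₀
  have key : ∀ σ : (M →ₗ[ZMod p] M)ˣ, G ^~ σ = G → ∀ g ∈ G ⊓ Subgroup.centralizer (G₀ : Set (M →ₗ[ZMod p] M)ˣ),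
      σ * g * σ⁻¹ ∈ G ⊓ Subgroup.centralizer (G₀ : Set (M →ₗ[ZMod p] M)ˣ) := by
    intro σ hσ g hg
    refine ⟨mem_rc.1 (hσ.symm ▸ hg.1), fun d hd => ?_⟩
    have h1 : G₀ ^~ σ ≤ G₀ := by
      rw [hG₀, rc, conjBy, Subgroup.map_le_iff_le_comap]
      exact iSup₂_le fun B hB => Subgroup.map_le_iff_le_comap.1 (le_biSup' (Sigma_nc hσ hB))
    have := hg.2 _ (h1 (conj_mem_rc hd σ))
    calc d * (σ * g * σ⁻¹) = σ * (σ⁻¹ * d * σ * g) * σ⁻¹ := by group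
      _ = _ := by rw [this]; group
  obtain ⟨T, hTY, hT, haT, hn⟩ := ih (G ⊓ Subgroup.centralizer (G₀ : Set (M →ₗ[ZMod p] M)ˣ))
    (lt_of_le_of_ne inf_le_left fun e => r1_not_cm (mu_r1 hk hx hy mu) fun c hc d hd =>
      ((e.ge (EE_le hc)).2 d (le_biSup' hy.EE_mem hd)).symm)
    (h.mono inf_le_left (norm_of_forall fun σ hσ => key σ (h.nc hσ)) ⟨h.mem, fun d hd => by
      have h1 : G₀ ≤ Cent G ((a : M →ₗ[ZMod p] M) - 1) := iSup₂_le fun C hC => le_Cent hp hrp h hq hG ih hC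
      apply Units.ext
      simpa [sub_mul, mul_sub] using (h1 hd).2.symm⟩)
  have := hG.normal inf_le_left (fun g hg => rc_eq_self_iff_mem_normalizer.2
    (norm_of_forall (fun σ hσ => key σ (rc_of_mem hσ)) hg)) T hTY (unip_of_isPGroup hT)
    fun g hg => rc_eq_self_iff_mem_normalizer.2 (hn hg)
  exact ha (Subgroup.mem_bot.1 (this ▸ haT))

end Cfsg.Agent.FZJ
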