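import Cfsg.Agent.FZJ.Rad

/-! Equivariant ZJ: a quadratic element of `O_p` of the Levi factor centralizes `U(x)`. -/

set_option autoImplicit false
set_option linter.unusedSimpArgs false
set_option linter.unnecessarySeqFocus false

namespace Cfsg.Agent.FZJ
open Cfsg.Agent.H90 LinearMap

section Ring
variable {k : Type*} [Field k] {A : Type*} [Ring A] [Algebra k A] {G : Subgroup Aˣ}
variable {e f s c x y n n' v w : A}

theorem schur (i : Id2 e f) (d : D1 e f s) (d2 : D2 e f c) (v1 : e * v = 0) (v2 : (1 - f) * v * (1 - e) = 0)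
    (w1 : w * f = 0) (w2 : (1 - f) * w * (1 - e) = 0) (n1 : n * e = f * n) (n2 : n * f = e * n) (n3 : n * n' = 1)
    (n4 : n' * n = 1) (h : 1 + s + c = (1 + v) * n * (1 + w)) :
    c = n * f ∧ s * f * n' * (e * s) = (1 - e - f) - (1 - e - f) * n * (1 - e - f) := by
  have cf := d2.fl i
  have ce := d2.er i
  have qe : (1 - e - f) * e = 0 := by simp [sub_mul, i.ee, i.fe]
  have qf : (1 - e - f) * f = 0 := by simp [sub_mul, i.ff, i.ef]
  have eq : e * (1 - e - f) = 0 := by simp [mul_sub, i.ee, i.ef]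
  have fq : f * (1 - e - f) = 0 := by simp [mul_sub, i.ff, i.fe]
  have qq : (1 - e - f) * (1 - e - f) = 1 - e - f := by rw [mul_sub, mul_sub, qe, qf]; simp
  have qc : (1 - e - f) * c = 0 := by simp [sub_mul, d2.l, cf]
  have cq : c * (1 - e - f) = 0 := by simp [mul_sub, d2.r, ce]
  have qs : (1 - e - f) * s = s * f := by linear_combination (norm := noncomm_ring) -d.s - d.l
  have sq : s * (1 - e - f) = e * s := by linear_combination (norm := noncomm_ring) -d.s - d.r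
  have qv : (1 - e - f) * v = (1 - e - f) * v * e := by
    linear_combination (norm := noncomm_ring) v2 - v1 * (1 - e)
  have wq : w * (1 - e - f) = f * w * (1 - e - f) := by
    linear_combination (norm := noncomm_ring) w2 - (1 - f) * w1
  generalize 1 - e - f = q at *
  have h1 : c = n * f := by
    linear_combination (norm := noncomm_ring) e * h * f - i.ef - d.m - d2.l * f - d2.r + v1 * n * (1 + w) * f +
      e * n * w1 - n2 * f + n * i.ff
  have h2 : s * f = q * v * e * n := by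
    linear_combination (norm := noncomm_ring) q * h * f - qf - qs * f - s * i.ff - qc * f + q * (1 + v) * n * w1 +
      q * (1 + v) * n2 + qe * n
  have h3 : e * s = n * f * w * q := by
    linear_combination (norm := noncomm_ring) e * h * q - eq - e * sq - i.ee * s - e * cq + v1 * n * (1 + w) * q -
      n2 * (1 + w) * q + n * fq
  refine ⟨h1, ?_⟩
  have h4 : q * s * q = 0 := by rw [qs, mul_assoc, fq, mul_zero]
  rw [h2, h3]
  linear_combination (norm := noncomm_ring) -(q * h * q) + qq + h4 + qc * q - qv * n * (1 + w) * q -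
    (q + q * v * e) * n * wq - q * n2 * w * q - qe * n * w * q + q * v * n2 * q - q * v * n * fq +
    q * v * e * n3 * n * f * w * q

theorem pow_sub_mem {L I : Submodule k A} (hL : L * L ≤ L) (h1 : L * I ≤ I) (h2 : I * L ≤ I) {a b : A} (ha : a ∈ L)
    (hb : b ∈ L) (h : a - b ∈ I) (m : ℕ) : b ^ (m + 1) ∈ L ∧ a ^ (m + 1) - b ^ (m + 1) ∈ I := by
  induction m with
  | zero => simpa using ⟨hb, h⟩
  | succ m ih =>
    refine ⟨by rw [pow_succ]; exact hL (Submodule.mul_mem_mul ih.1 hb), ?_⟩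
    convert add_mem (h1 (Submodule.mul_mem_mul ha ih.2)) (h2 (Submodule.mul_mem_mul h ih.1)) using 1
    rw [pow_succ' a (m + 1), pow_succ' b (m + 1)]; noncomm_ring

theorem mem_of_wey (hk : PF k) {L : Submodule k A} (h : ∀ t : k, t ≠ 0 → wey x y t ∈ L) : x ∈ L ∧ y ∈ L := by
  have h1 := sub_mem (h 1 one_ne_zero) (h (-1) (by simp))
  have h2 := sub_mem (h 2 hk.two) (h (-2) (neg_ne_zero.2 hk.two))
  have := hk.two
  have := hk.three
  constructor
  · convert L.smul_mem (2 * 3 : k)⁻¹ (sub_mem (L.smul_mem 2 h2) h1) using 1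
    simp only [wey]
    match_scalars <;> field_simp <;> ring
  · convert L.smul_mem (3 : k)⁻¹ (sub_mem h2 (L.smul_mem 2 h1)) using 1
    simp only [wey]
    match_scalars <;> field_simp <;> ring

theorem eq_zero_of_nil {Z W : A} (h1 : Z * e = Z) (h2 : Z * W = e) {N : ℕ} (h : Z ^ N = 0) : e = 0 := by
  have : ∀ N : ℕ, Z ^ N * e * W ^ N = e := by
    intro N
    induction N with
    | zero => simp
    | succ N ih => rw [pow_succ, mul_assoc _ Z, h1, pow_succ', ← mul_assoc, mul_assoc _ Z, h2, ih]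
  rw [← this N, h, zero_mul, zero_mul]

theorem uu_of_d2 (mu : MU x y) (h : D2 (x * y) (y * x) c) : UU x y c := by
  simpa using uu_of_d mu (s := 0) ⟨by simp, by simp, by simp, by simp⟩ h

theorem qe_UG (mu : MU x y) (hc : QE k G c) (h : D2 (x * y) (y * x) c) : QE k (UG G mu) c :=
  ⟨hc.sq, fun t => inG_UG (hc.mem t) (uu_of_d2 mu (h.smul t))⟩

end Ring

section End
variable {k : Type*} [Field k] {M : Type*} [AddCommGroup M] [Module k M]
variable {G : Subgroup (M →ₗ[k] M)ˣ} {a c x y x' y' ν : M →ₗ[k] M}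

theorem d2_of_inE (mu : MU x y) (h : InE G x c) : D2 (x * y) (y * x) c :=
  ⟨by have := h.right (y := 1 - x * y) (by simp [sub_mul, mu.efe])
      linear_combination (norm := noncomm_ring) -this,
   by have := h.left (y := 1 - y * x) (by simp [mul_sub, e4' mu.efe])
      linear_combination (norm := noncomm_ring) -this⟩

theorem inE_of_d2 (hc : QE k G c) (h : D2 (x * y) (y * x) c) : InE G x c :=
  InE.of_mul hc (p := c * y) (q := y * c) (by rw [mul_assoc, h.r]) (by rw [← mul_assoc, h.l])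

theorem uu_comm_inE {u : M →ₗ[k] M} (h : UU x y u) (hc : InE G x c) : u * c = c * u := by
  rw [hc.left h.l, hc.right h.r]

variable [FiniteDimensional k M]

theorem same_idem (hx : QD G x) (hy : QD G y) (mu : MU x y) (mu' : MU x' y') (h1 : InE G x x') (h2 : InE G y y')
    (h0 : x' ≠ 0) : x' * y' = x * y ∧ y' * x' = y * x := by
  have s1 := (h1.sim hx h0).right (x := 1 - x' * y') (by simp [sub_mul, mu'.efe])
  have s2 := (h2.sim hy (mu'.ne h0)).right (x := 1 - y' * x') (by simp [sub_mul, mu'.fef])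
  have d1 := d2_of_inE mu h1
  have d2 := d2_of_inE mu.symm h2
  exact ⟨by linear_combination (norm := noncomm_ring) -s1 * y - x' * d2.r,
    by linear_combination (norm := noncomm_ring) -s2 * x - y' * d1.r⟩

/-- a quadratic element normalizing a root subgroup centralizes it -/
theorem cent_of_norm (h2 : (2 : k) ≠ 0) (ha : QD G a) (hν : ν * ν = 0) (p1 : InE G a ((1 + ν) * a * (1 - ν)))
    (p2 : InE G a ((1 - ν) * a * (1 + ν))) : ν * a = a * ν := by
  have q1 : InE G a (ν * a * ν) := by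
    convert (((InE.self ha.qe).add ha.sq (InE.self ha.qe)).add ha.sq (p1.add ha.sq p2).neg).smul (2 : k)⁻¹ using 1
    simp only [mul_add, add_mul, mul_sub, sub_mul, mul_one, one_mul]
    match_scalars <;> field_simp <;> ring
  have q2 : InE G a (ν * a - a * ν) := by
    convert (p1.add ha.sq p2.neg).smul (2 : k)⁻¹ using 1
    simp only [mul_add, add_mul, mul_sub, sub_mul, mul_one, one_mul]
    match_scalars <;> field_simp <;> ring
  have q3 : ν * a * ν = 0 := by
    by_contra h0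
    exact h0 (by rw [(q1.sim ha h0).right (x := ν) (by simp [mul_assoc, z3 hν]), zero_mul])
  by_contra h0
  have s := q2.sim ha (sub_ne_zero.2 h0)
  exact h0 (by rw [s.right (x := ν) (by simp [mul_sub, z3 hν, z4' q3]),
    s.left (x := ν) (by simp [sub_mul, mul_assoc, hν, z4' q3])])

theorem comm_inE (h2 : (2 : k) ≠ 0) (hx : QD G x) (mu : MU x y) (hν : QE k G ν) (he : ν * (x * y) = x * y * ν)
    (hf : ν * (y * x) = y * x * ν) (hc : InE G x c) : ν * c = c * ν := by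
  by_cases h0 : c = 0
  · simp [h0]
  have d := d2_of_inE mu hc
  refine cent_of_norm h2 (hc.qd hx h0) hν.sq ?_ ?_
  · exact (inE_of_d2 (hc.qe.conj1 hν) (d.conj (by simp [add_mul, mul_add, he])
      (by simp [sub_mul, mul_sub, hf]))).congr (hc.sim hx h0).symm
  · exact (inE_of_d2 (hc.qe.conj' hν.one_sub (un ν hν.sq).inv_mul) (d.conj (by simp [sub_mul, mul_sub, he])
      (by simp [add_mul, mul_add, hf]))).congr (hc.sim hx h0).symm

theorem exists_swap (hk : PF k) (hx : QD G x) (hy : QD G y) (mu : MU x y) {u : (M →ₗ[k] M)ˣ} (hu : u ∈ G)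
    (hn : y * (u * y * (u⁻¹ : (M →ₗ[k] M)ˣ)) * y ≠ 0) : ∃ v ∈ UG G mu.symm, ∃ w ∈ UG G mu.symm,
      ((v * u * w : (M →ₗ[k] M)ˣ) : M →ₗ[k] M) * (x * y) = y * x * (v * u * w : (M →ₗ[k] M)ˣ) ∧
      ((v * u * w : (M →ₗ[k] M)ˣ) : M →ₗ[k] M) * (y * x) = x * y * (v * u * w : (M →ₗ[k] M)ˣ) := by
  have hy1 := hy.conj hu
  have hy2 := hy.conj' (InG.of_mem (G.inv_mem hu)) u.inv_mul
  obtain ⟨x1, i1, m1⟩ := hy.exists_mu hk.two hk.card hy1 hn
  obtain ⟨x2, i2, m2⟩ := hy.exists_mu hk.two hk.card hy2 fun h => hn (hy.L1 hk.two hy1.qe (by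
    linear_combination (norm := noncomm_ring) (u : M →ₗ[k] M) * h * (u⁻¹ : (M →ₗ[k] M)ˣ)))
  obtain ⟨g, hg, e1⟩ := exists_UG hk mu.symm m1 hy.qe hx.qe i1.qe
  obtain ⟨w, hw, e2⟩ := exists_UG hk mu.symm m2 hy.qe hx.qe i2.qe
  refine ⟨g⁻¹, inv_mem hg, w, hw, ?_⟩
  have j2 : InE G y (u * x2 * (u⁻¹ : (M →ₗ[k] M)ˣ)) := by
    simpa [mul_assoc] using i2.conj' (InG.of_mem hu) u.mul_inv u.inv_mul
  have j1 := i1.conj' (InG.of_mem (G.inv_mem hg.1)) g.inv_mul g.mul_inv
  have hx1 := hy1.conj' (InG.of_mem (G.inv_mem hg.1)) g.inv_mul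
  rw [show (g⁻¹ : (M →ₗ[k] M)ˣ) * x1 * g = x by simp [← e1, mul_assoc]] at j1
  have j3 := (j1.sim hx1 hx.ne).symm.inE hx1.qe
  set n := g⁻¹ * u * w with hn'
  have a1 : (n : M →ₗ[k] M) * x * (n⁻¹ : (M →ₗ[k] M)ˣ) = u * x2 * (u⁻¹ : (M →ₗ[k] M)ˣ) := by
    have := uu_comm_inE hg.2 j2
    have h3 : (g : M →ₗ[k] M) * (u * x2 * (u⁻¹ : (M →ₗ[k] M)ˣ)) = u * x2 * (u⁻¹ : (M →ₗ[k] M)ˣ) * g := by
      linear_combination (norm := noncomm_ring) this
    rw [← Units.inv_mul_cancel_left g (u * x2 * _), h3, ← e2]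
    simp [hn', mul_assoc]
  have a2 : (n : M →ₗ[k] M) * y * (n⁻¹ : (M →ₗ[k] M)ˣ) =
      (g⁻¹ : (M →ₗ[k] M)ˣ) * (u * y * (u⁻¹ : (M →ₗ[k] M)ˣ)) * g := by
    simp [hn', mul_assoc, e3 (UG_comm hw)]
  have m3 := mu_conj mu.symm n.inv_mul
  rw [← a1] at j2
  rw [← a2] at j3 hx1
  obtain ⟨b1, b2⟩ := same_idem hx hy mu m3 j3 j2 hx1.ne
  exact ⟨by rw [← b2]; simp [mul_assoc], by rw [← b1]; simp [mul_assoc]⟩

theorem gamma_zero (hk : PF k) (hx : QD G x) (hy : QD G y) (mu : MU x y) (hν : QE k G ν) (cx : ν * x = x * ν)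
    (cy : ν * y = y * ν) {K T Y : Subgroup (M →ₗ[k] M)ˣ} (hK1 : UG G mu ≤ K) (hK2 : UG G mu.symm ≤ K)
    (hT : Unip k T) (hTY : T ≤ Y) (hn : ∀ g ∈ Y, T ^~ g = T) (hνT : un ν hν.sq ∈ T)
    (hY : ∀ n ∈ K, (n : M →ₗ[k] M) * (x * y) = y * x * n → (n : M →ₗ[k] M) * (y * x) = x * y * n → n ∈ Y)
    {s : M →ₗ[k] M} (hs : U1 k G (x * y) (y * x) s) : s * (ν * s - s * ν) - (ν * s - s * ν) * s = 0 := by
  have i := id2_of_mu mu
  have d := hs.d
  have dx := d2_of_mu mu
  have hz := tor_mem mu hx.qe hy.qe (t := (-1 : k)) (by simp)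
  have he : ν * (x * y) = x * y * ν := by rw [← mul_assoc, cx, mul_assoc, cy, mul_assoc]
  have hf : ν * (y * x) = y * x * ν := by rw [← mul_assoc, cy, mul_assoc, cx, mul_assoc]
  have hη := hs.bracket hk i hz hν he hf
  have dγ := (d.mul hη.d).sub (hη.d.mul d)
  have iγ := inE_of_d2 (hs.add_comm hk i hz hη).2 dγ
  by_contra h0
  obtain ⟨δ, iδ, mγ⟩ := hx.partner hk.two hk.card hy (by rw [mu.efe]; exact hx.ne) iγ h0
  obtain ⟨L, I, m, hL, LL, IL, LI, IL', hI, Im⟩ := exists_nil_ideal hT hTY hn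
  have memL : ∀ x' y', InE G x x' → InE G y y' → x' ≠ 0 → MU x' y' → x' ∈ L ∧ y' ∈ L := by
    intro x' y' h1 h2 h3 h4
    obtain ⟨b1, b2⟩ := same_idem hx hy mu h4 h1 h2 h3
    refine mem_of_wey hk fun t ht => ?_
    obtain ⟨n, hn, e⟩ := wey_mem h4 ((qe_UG mu h1.qe (d2_of_inE mu h1)).mono hK1)
      ((qe_UG mu.symm h2.qe (d2_of_inE mu.symm h2)).mono hK2) ht
    have := wey_swap h4 t
    rw [b1, b2, ← e] at this
    exact e ▸ hL n (hY n hn this.1 this.2)
  obtain ⟨xL, yL⟩ := memL x y (InE.self hx.qe) (InE.self hy.qe) hx.ne mu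
  obtain ⟨γL, δL⟩ := memL _ δ iγ iδ h0 mγ
  obtain ⟨b1, b2⟩ := same_idem hx hy mu mγ iγ iδ h0
  have mL : ∀ {a b}, a ∈ L → b ∈ L → a * b ∈ L := fun ha hb => LL (Submodule.mul_mem_mul ha hb)
  have νI : ν ∈ I := by simpa using hI _ hνT
  -- a good element
  have key : ∀ t : k, ∃ u ∈ UG G mu, (u : M →ₗ[k] M) = 1 + s + ((2 : k)⁻¹ • (s * s) + t • x) ∧
      y * (u * y * (u⁻¹ : (M →ₗ[k] M)ˣ)) * y = (2 : k)⁻¹ • (2 : k)⁻¹ • (y * (s * (s * (y * (s * (s * y)))))) -
        t • t • y := by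
    intro t
    have d2 := ((d.mul d).smul (2 : k)⁻¹).add (dx.smul t)
    obtain ⟨u, hu, e⟩ : InG G (1 + (s + ((2 : k)⁻¹ • (s * s) + t • x))) := by
      convert hs.mem.mul (hx.qe.mem t) using 1
      simp only [Ex, mul_add, add_mul, mul_one, one_mul, smul_mul_assoc, mul_smul_comm, mul_assoc, d.d2 dx, mul_zero]
      module
    have yS : y * (s * y) = 0 := by
      linear_combination (norm := noncomm_ring) y * d.m * y - mu.fef * s * y * x * y - y * s * mu.fef
    refine ⟨u, ⟨hu, by rw [e, add_sub_cancel_left]; exact uu_of_d mu d d2⟩, by rw [e, add_assoc], ?_⟩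
    rw [Units.inv_eq_of_mul_eq_one_right (by rw [e, ← add_assoc]; exact up_inv i d d2), e]
    simp only [mul_add, add_mul, mul_sub, sub_mul, mul_one, one_mul, smul_mul_assoc, mul_smul_comm, mul_assoc, mu.ff,
      z3 mu.ff, yS, z4 (by rw [mul_assoc]; exact yS : y * s * y = 0), e4 mu.fef, e4' mu.fef, mul_zero, smul_zero,
      zero_mul, zero_add, sub_zero]
    have := hk.two
    match_scalars <;> field_simp <;> ring
  obtain ⟨t, u, hu, e, hn⟩ : ∃ t : k, ∃ u ∈ UG G mu, (u : M →ₗ[k] M) = 1 + s + ((2 : k)⁻¹ • (s * s) + t • x) ∧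
      y * (u * y * (u⁻¹ : (M →ₗ[k] M)ˣ)) * y ≠ 0 := by
    obtain ⟨u0, h1, h2, h3⟩ := key 0
    obtain ⟨u1, h4, h5, h6⟩ := key 1
    by_cases h7 : y * (u0 * y * (u0⁻¹ : (M →ₗ[k] M)ˣ)) * y = 0
    · refine ⟨1, u1, h4, h5, fun h8 => hy.ne ?_⟩
      rw [h7, zero_smul, sub_zero] at h3
      rw [h8, ← h3] at h6
      simpa using h6
    · exact ⟨0, u0, h1, h2, h7⟩
  have d2 := ((d.mul d).smul (2 : k)⁻¹).add (dx.smul t)
  obtain ⟨v, hv, w, hw, n1, n2⟩ := exists_swap hk hx hy mu hu.1 hn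
  have nY := hY _ (mul_mem (mul_mem (hK2 hv) (hK1 hu)) (hK2 hw)) n1 n2
  have hv' := (inv_mem hv).2
  have hw' := (inv_mem hw).2
  obtain ⟨c1, c2⟩ := schur i d d2 (by rw [mul_assoc, hv'.l, mul_zero]) hv'.m (by rw [← mul_assoc, hw'.r, zero_mul])
    hw'.m n1 n2 (Units.mul_inv _) (Units.inv_mul _) (by rw [← e]; simp [mul_assoc])
  have nL := hL _ nY
  have n'L := hL _ (inv_mem nY)
  have n3 := Units.inv_mul (v * u * w)
  generalize ((v * u * w : (M →ₗ[k] M)ˣ) : M →ₗ[k] M) = n at *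
  generalize (((v * u * w)⁻¹ : (M →ₗ[k] M)ˣ) : M →ₗ[k] M) = n' at *
  have eL := mL xL yL
  have fL := mL yL xL
  have qL : 1 - x * y - y * x ∈ L := sub_mem (sub_mem (by simpa using hL 1 (one_mem _)) eL) fL
  have ssL : s * s ∈ L := by
    convert L.smul_mem (2 : k) (sub_mem (c1 ▸ mL nL fL) (L.smul_mem t xL)) using 1
    have := hk.two
    match_scalars <;> field_simp <;> ring
  have wI : ν * (s * (y * x) * n' * (x * y * s)) ∈ I :=
    IL' (Submodule.mul_mem_mul νI (c2 ▸ sub_mem qL (mL (mL qL nL) qL)))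
  have hX : (x * y * s * (ν * (s * (y * x) * n' * (x * y)))) ^ (m + 1) = 0 := by
    have h1 : (ν * (s * (y * x) * n' * (x * y * s))) ^ m = 0 := by
      have := Submodule.pow_mem_pow I wI m
      rwa [Im, Submodule.mem_bot] at this
    have h2 : ν * (s * (y * x) * n' * (x * y)) * (x * y * s) = ν * (s * (y * x) * n' * (x * y * s)) := by
      simp only [mul_assoc, e4 mu.efe]
    rw [pow_succ', mul_assoc, ← mul_pow_mul, h2, h1]; simp
  have hdiff : (s * (ν * s - s * ν) - (ν * s - s * ν) * s) * (n' * (x * y)) -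
      (2 : k) • (x * y * s * (ν * (s * (y * x) * n' * (x * y)))) ∈ I := by
    convert neg_mem (add_mem (IL' (Submodule.mul_mem_mul (LI (Submodule.mul_mem_mul ssL νI)) (mL n'L eL)))
      (IL' (Submodule.mul_mem_mul νI (mL ssL (mL n'L eL))))) using 1
    have h1 : s * ν * s = x * y * s * ν * (s * (y * x)) := by
      generalize x * y = e at *
      generalize y * x = f at *
      linear_combination (norm := noncomm_ring) -(d.s * ν * s) - e * s * ν * d.s + e * s * he * s + e * d.r * ν * s -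
        s * hf * s + s * ν * d.l
    rw [two_smul]
    linear_combination (norm := noncomm_ring) (h1 + h1) * n' * x * y
  have ZL := mL γL (mL n'L eL)
  have h3 := (pow_sub_mem LL LI IL' ZL (by simpa using sub_mem ZL (IL hdiff)) hdiff m).2
  rw [smul_pow, hX, smul_zero, sub_zero] at h3
  have h4 := Submodule.pow_mem_pow I h3 m
  rw [Im, Submodule.mem_bot, ← pow_mul] at h4
  have h5 := eq_zero_of_nil (e := x * y) (W := n * (y * x) * δ) (by simp only [mul_assoc, e4 mu.efe]) (by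
    generalize s * (ν * s - s * ν) - (ν * s - s * ν) * s = γ at *
    linear_combination (norm := noncomm_ring) -(γ * n' * n2 * (y * x) * δ) + γ * n3 * y * x * y * x * δ +
      γ * i.ff * δ + dγ.r * δ + b1) h4
  exact hx.ne (by rw [← mu.efe, h5, zero_mul])

end End

section Fin
variable {p : ℕ} [Fact p.Prime] {M : Type*} [AddCommGroup M] [Module (ZMod p) M] [Finite M]
variable {G : Subgroup (M →ₗ[ZMod p] M)ˣ} {x y ν : M →ₗ[ZMod p] M}

omit [Finite M] in
theorem comm_UG_of (hk : PF (ZMod p)) (hx : QD G x) (hy : QD G y) (mu : MU x y)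
    (h1 : ∀ s, U1 (ZMod p) G (x * y) (y * x) s → ν * s = s * ν) (h2 : ∀ c, InE G x c → ν * c = c * ν) :
    ∀ g ∈ UG G mu, ν * g = g * ν := by
  intro g hg
  obtain ⟨d1, d2⟩ := uu_split mu hg.2
  have e : (g : M →ₗ[ZMod p] M) = 1 + ((g : M →ₗ[ZMod p] M) - 1 - x * y * ((g : M →ₗ[ZMod p] M) - 1) * (y * x)) +
    x * y * ((g : M →ₗ[ZMod p] M) - 1) * (y * x) := by abel
  generalize (g : M →ₗ[ZMod p] M) - 1 - x * y * ((g : M →ₗ[ZMod p] M) - 1) * (y * x) = s at *
  generalize x * y * ((g : M →ₗ[ZMod p] M) - 1) * (y * x) = c at *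
  obtain ⟨h3, h4⟩ := up_split hk (id2_of_mu mu) d1 d2 (tor_mem mu hx.qe hy.qe (by simp)) (e ▸ InG.of_mem hg.1)
  have h5 := h1 s ⟨d1, by simpa using h3 1⟩
  have h6 := h2 _ (inE_of_d2 h4 (d2.sub ((d1.mul d1).smul _)))
  have h7 : ν * (s * s) = s * s * ν := by rw [← mul_assoc, h5, mul_assoc, h5, mul_assoc]
  rw [mul_sub, sub_mul, mul_smul_comm, smul_mul_assoc, h7, sub_left_inj] at h6
  rw [e, mul_add, mul_add, add_mul, add_mul, h5, h6, mul_one, one_mul]

theorem tt (hp : 3 < p) (hG : NoUnip (ZMod p) G) (hx : QD G x) (hy : QD G y) (mu : MU x y) (hν : QE (ZMod p) G ν)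
    (cx : ν * x = x * ν) (cy : ν * y = y * ν) {K T Y : Subgroup (M →ₗ[ZMod p] M)ˣ} (hK1 : UG G mu ≤ K)
    (hK2 : UG G mu.symm ≤ K) (hT : Unip (ZMod p) T) (hTY : T ≤ Y) (hn : ∀ g ∈ Y, T ^~ g = T) (hνT : un ν hν.sq ∈ T)
    (hY : ∀ n ∈ K, (n : M →ₗ[ZMod p] M) * (x * y) = y * x * n → (n : M →ₗ[ZMod p] M) * (y * x) = x * y * n → n ∈ Y) :
    ∀ g ∈ UG G mu, ν * g = g * ν := by
  have hk := pf hp
  have i := id2_of_mu mu
  have hz := tor_mem mu hx.qe hy.qe (t := (-1 : ZMod p)) (by simp)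
  have he : ν * (x * y) = x * y * ν := by rw [← mul_assoc, cx, mul_assoc, cy, mul_assoc]
  have hf : ν * (y * x) = y * x * ν := by rw [← mul_assoc, cy, mul_assoc, cx, mul_assoc]
  have hc := fun c => comm_inE (c := c) hk.two hx mu hν he hf
  have hγ := fun s => gamma_zero (s := s) hk hx hy mu hν cx cy hK1 hK2 hT hTY hn hνT hY
  refine comm_UG_of hk hx hy mu (fun s hs => sub_eq_zero.1 ?_) hc
  have hη := hs.bracket hk i hz hν he hf
  have sq : (ν * s - s * ν) * (ν * s - s * ν) = 0 := by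
    apply smul_right_injective _ hk.two
    simp only [two_smul, add_zero]
    linear_combination (norm := noncomm_ring) ν * hγ s hs + hγ s hs * ν + hν.sq * s * s + s * s * hν.sq -
      s * hν.sq * s - s * hν.sq * s
  refine rad hp hG mu hx.qe hy (qe_of_inG' hk sq (ex_of_sq (k := ZMod p) sq ▸ hη.mem)) hη.d fun s' hs' => ?_
  obtain ⟨a1, a2⟩ := hs.add_comm hk i hz hs'
  have a3 := hc _ (inE_of_d2 a2 ((hs.d.mul hs'.d).sub (hs'.d.mul hs.d)))
  apply smul_right_injective _ hk.two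
  simp only [two_smul]
  linear_combination (norm := noncomm_ring) a3 - hγ _ a1 + hγ _ hs + hγ _ hs'

end Fin

end Cfsg.Agent.FZJ
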