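import Cfsg.Agent.FZJ.Red
import Cfsg.Agent.H61.KMain
import Cfsg.Agent.H62.Stable
import Cfsg.Agent.H75.SecRep

/-! Equivariant ZJ: the K-sequence of the subgroup lies in `O_p(G)`. -/

set_option autoImplicit false

namespace Cfsg.Agent.FZJ
open Subgroup Cfsg Cfsg.Agent.H72 Cfsg.Agent.H61
open scoped commutatorElement

variable {X : Type*} [Group X] [Finite X] {p r : ℕ} [Fact p.Prime] [Fact r.Prime]

theorem no_quad_aux (hp : 3 < p) (hrp : r ≠ p) {G R U V : Subgroup X} [G.Normal] {g : X} (h : Hyp p r G R g)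
    (hV : IsChiefFactor U V) (hq : ⁅⁅U, zpowers g⁆, zpowers g⁆ ≤ V) {W : Type} [AddCommGroup W] [Module (ZMod p) W]
    [Finite W] {π : X → W} {ρ : X → W →ₗ[ZMod p] W} (s : H75.SecRep ⊤ U V p π ρ) : ⁅U, zpowers g⁆ ≤ V := by
  have hUn := hV.2.1
  obtain ⟨f, hf⟩ : ∃ f : X →* (W →ₗ[ZMod p] W)ˣ, ∀ x, (f x : W →ₗ[ZMod p] W) = ρ x :=
    ⟨MonoidHom.toHomUnits ⟨⟨ρ, s.rho_one⟩, fun a b => s.rho_mul (mem_top a) (mem_top b)⟩, fun _ => rfl⟩
  have h1 : ∀ u ∈ U, (ρ g - 1) (π u) = π ⁅g, u⁆ := fun u hu => by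
    rw [commutatorElement_def, s.mul _ (hUn.conj_mem u hu g) _ (inv_mem hu), s.inv hu, s.act g (mem_top g) u hu,
      ← sub_eq_add_neg]
    rfl
  obtain ⟨T, a1, a2, a3, a4⟩ := core hp hrp (h.map f) (LinearMap.ext fun v => by
    obtain ⟨u, hu, rfl⟩ := s.surj v
    have h2 : ⁅g, u⁆ ∈ ⁅U, zpowers g⁆ := by
      rw [commutator_comm]
      exact commutator_mem_commutator (mem_zpowers g) hu
    have h3 : ⁅g, u⁆ ∈ U := commutator_le_left U _ h2
    rw [Module.End.mul_apply, hf, h1 u hu, h1 _ h3]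
    rw [commutator_comm] at hq
    exact (s.ker _ (commutator_le_right ⊤ U (commutator_mem_commutator (mem_top g) h3))).2
      (hq (commutator_mem_commutator (mem_zpowers g) h2)))
  have h4 : IsIrreducibleFor f.range := by
    obtain ⟨u, hu, hu'⟩ := SetLike.exists_of_lt hV.1
    refine ⟨⟨π u, fun e => hu' ((s.ker u hu).1 e)⟩, fun W hW => ?_⟩
    exact (hV.2.2.2 (s.pre W) (normalizer_eq_top_iff.1 (top_le_iff.1 (s.norm_pre le_rfl
      fun a _ => hf a ▸ hW _ ⟨a, rfl⟩))) (s.le_pre W) (s.pre_le W)).imp s.eq_bot_of_pre s.eq_top_of_pre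
  have : Finite (W →ₗ[ZMod p] W) := Finite.of_injective _ DFunLike.coe_injective
  have h5 : H90.NoUnip (ZMod p) (G.map f) := (H90.noUnip_of_irr h4).normal (map_le_range f G) (by
    rintro _ ⟨x, rfl⟩
    exact H90.rc_eq_self_iff_mem_normalizer.2 (le_normalizer_map f ⟨x, le_normalizer_of_normal (mem_top x), rfl⟩))
  rw [h5 T a1 (unip_of_isPGroup a2) fun x hx => H90.rc_eq_self_iff_mem_normalizer.2 (a4 hx)] at a3
  rw [commutator_comm]
  refine commutator_le.2 fun x hx u hu => (s.rho_apply_eq_iff (mem_top x) hu).1 ?_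
  rw [← hf, (zpowers_le.2 (show g ∈ f.ker from a3) hx : f x = 1)]
  rfl

/-- no quadratic action on chief factors -/
theorem no_quad (hp : 3 < p) (hrp : r ≠ p) {G R U V : Subgroup X} [G.Normal] {g : X} (h : Hyp p r G R g)
    (hV : IsChiefFactor U V) (hU : IsPGroup p U) (hq : ⁅⁅U, zpowers g⁆, zpowers g⁆ ≤ V) : ⁅U, zpowers g⁆ ≤ V := by
  have hUn := hV.2.1
  have hVn := hV.2.2.1
  obtain ⟨k, hk⟩ := hU.exists_card_eq
  obtain ⟨n, -, hn⟩ := (Nat.dvd_prime_pow (Fact.out : p.Prime)).1 (hk ▸ relIndex_dvd_card V U)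
  obtain ⟨π, ρ, s⟩ := H75.exists_secRep (X := ⊤) (Fact.out : p.Prime) hV.1.le le_normalizer_of_normal
    le_normalizer_of_normal (chief_commutator_le hV hU.isNilpotent le_rfl) (fun _ hx => chief_pow_mem hV hU hx) hn
  exact no_quad_aux hp hrp h hV hq s

theorem kSeq_le (hp : 3 < p) (hrp : r ≠ p) {G R T P : Subgroup X} [G.Normal] [T.Normal] (hT : IsPGroup p T)
    (hTP : T ≤ P) (hC : G ⊓ centralizer (T : Set X) ≤ T) (hO : ∀ L : Subgroup X, L.Normal → L ≤ G → IsPGroup p L → L ≤ T)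
    (hH : ∀ g ∈ P, Hyp p r G R g) : ∀ n, kEvenIn P n ≤ T ∧ kOddIn P (n + 1) ≤ T := by
  by_contra h
  obtain ⟨A, hAT, hAc, -, hA2, hA3, -, hA5⟩ := H62.exists_critical T hT
  have hAn : A.Normal := by
    rw [← map_subgroupOf_eq_of_le hAT]
    infer_instance
  have hA : IsPGroup p A := hT.to_le hAT
  have hA6 : ∀ x : X, (orderOf x).Coprime p → x ∈ centralizer (A : Set X) → x ∈ centralizer (T : Set X) := by
    intro x hx hxA t ht
    have h1 : MulAut.conjNormal (H := T) x = 1 := by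
      refine hA5 _ (Nat.Coprime.coprime_dvd_left (orderOf_map_dvd _ x) hx) fun a ha => Subtype.ext ?_
      rw [MulAut.conjNormal_apply, ← hxA a ha, mul_inv_cancel_right]
    have h2 := congrArg (fun φ : MulAut T => ((φ ⟨t, ht⟩ : T) : X)) h1
    simp only [MulAut.conjNormal_apply, MulAut.one_apply] at h2
    exact (mul_inv_eq_iff_eq_mul.1 h2).symm
  have hmoved : ∀ D : Subgroup X, D ≤ P → ¬ D ≤ T → ¬ pRes p (normalClosure (D : Set X)) ≤ centralizer (A : Set X) := by
    intro D hDP hD hR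
    have h1 : normalClosure (D : Set X) ≤ G := normalClosure_le_normal fun x hx => (hH x (hDP hx)).mem
    refine hD (le_normalClosure.trans (hO _ inferInstance h1 (isPGroup_of_forall_coprime fun x hx hc => ?_)))
    exact eq_one_of_mem_isPGroup hT (hC ⟨h1 hx, hA6 x hc (hR (mem_pRes hx hc))⟩) hc
  suffices hD : ∃ D U V : Subgroup X, D ≤ P ∧ IsChiefFactor U V ∧ U ≤ A ∧ ⁅⁅U, D⁆, D⁆ ≤ V ∧ ¬ ⁅U, D⁆ ≤ V by
    obtain ⟨D, U, V, hDP, hUV, hUA, h4, h5⟩ := hD
    have := hUV.2.2.1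
    obtain ⟨g, hg, hg'⟩ := exists_mem_commutator_not_le h5
    exact hg' (no_quad hp hrp (hH g (hDP hg)) hUV (hA.to_le hUA)
      ((commutator_mono (commutator_mono le_rfl (zpowers_le.2 hg)) (zpowers_le.2 hg)).trans h4))
  rcases kSeq_dichotomy hTP hAT hA2 hA3 h with ⟨D, hDS, hDT, h1, h2⟩ | ⟨B, hBS, hBT, hB2, hAB, hB⟩
  · obtain ⟨V, hV, hV'⟩ := exists_chief_moved hA D (hmoved D hDS hDT)
    have hUA : sSup {Y | MinMoved p A (normalClosure (D : Set X)) Y} ≤ A := sSup_le fun Y hY => hY.le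
    have := hV.2.1
    exact ⟨D, _, V, hDS, hV, hUA, chief_quadratic_of_center hV hUA h1 h2
      (chief_commutator_le hV (hA.to_le hUA).isNilpotent le_rfl), hV'⟩
  · obtain ⟨V, hV, hV'⟩ := exists_chief_moved hA B (hmoved B hBS hBT)
    have hUA : sSup {Y | MinMoved p A (normalClosure (B : Set X)) Y} ≤ A := sSup_le fun Y hY => hY.le
    have := hV.2.1
    have := hV.2.2.1
    refine ⟨B, _, V, hBS, hV, hUA, commutator_commutator_sSup_le
      (chief_commutator_le hV (hA.to_le hUA).isNilpotent le_rfl) hV.1.le le_sup_left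
      (fun Y hY => le_sSup hY) (fun Y hY => ?_), hV'⟩
    rw [hB Y hY.le (le_normalClosure.trans hY.norm)]
    · exact bot_le
    · rw [commutator_comm]
      exact commutator_eq_bot_mono (MinMoved.derived_centralized (by omega) hA hA2 hB2 hAB hY) le_rfl
        le_normalClosure

/-- the lower K-infinity subgroup is normalized by `G` -/
theorem kInf_norm (hp : 3 < p) (hrp : r ≠ p) {G R P : Subgroup X} (hC : CharPIn p G) (hTP : pCoreOf p G ≤ P)
    (hPG : P ≤ G) (hR : R ≤ normalizer (G : Set X)) (hH : ∀ g ∈ P, Hyp p r G R g) :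
    G ≤ normalizer (((kInfLower P).map P.subtype : Subgroup X) : Set X) := by
  set N := normalizer (G : Set X)
  have hGN : G ≤ N := le_normalizer
  have hTN : pCoreOf p G ≤ N := (pCoreOf_le G).trans hGN
  have : (G.subgroupOf N).Normal := normal_in_normalizer
  have : ((pCoreOf p G).subgroupOf N).Normal :=
    (normal_subgroupOf_iff_le_normalizer hTN).2 (normalizer_le_normalizer_pCoreOf G)
  have h1 := (kInf_eq_of_le (T := (pCoreOf p G).subgroupOf N) (S := P.subgroupOf N) (comap_mono hTP) (kSeq_le (G := G.subgroupOf N) (R := R.subgroupOf N)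
    (T := (pCoreOf p G).subgroupOf N) (P := P.subgroupOf N) hp hrp (isPGroup_pCoreOf p G).comap_subtype
    (comap_mono hTP) (fun x hx => hC ⟨hx.1, fun t ht => congrArg Subtype.val (hx.2 ⟨t, hTN ht⟩ ht)⟩)
    (fun L hL h1 h2 => map_le_iff_le_comap.1 (le_pCoreOf (h2.map _) (map_le_iff_le_comap.2 h1)
      (hGN.trans (le_normalizer_map_subtype L)))) fun g hg => (hH g hg).subgroupOf hGN hR)).1
  have h2 : ∀ S : Subgroup N, (kInfLower S).map S.subtype = ⨆ n, kEvenIn S n := fun S => by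
    rw [map_kInfLower S.subtype_injective, range_subtype]
  have : (kInfLower ((pCoreOf p G).subgroupOf N)).Characteristic :=
    characteristic_iff_map_eq.2 fun φ => map_kInfLower_equiv φ
  have h3 : ((kInfLower (P.subgroupOf N)).map (P.subgroupOf N).subtype).Normal := by
    rw [h2, ← h1, ← h2]
    infer_instance
  have h4 := le_normalizer_map_subtype ((kInfLower (P.subgroupOf N)).map (P.subgroupOf N).subtype)
  rw [map_map, map_kInfLower (f := N.subtype.comp (P.subgroupOf N).subtype)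
    (N.subtype_injective.comp (P.subgroupOf N).subtype_injective), MonoidHom.range_comp,
    range_subtype, map_subgroupOf_eq_of_le (hPG.trans hGN)] at h4
  rw [map_kInfLower P.subtype_injective, range_subtype]
  exact hGN.trans h4

end Cfsg.Agent.FZJ
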